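import Cfsg.Agent.H101.ROUniO

/-!
# `RealOdd` for `PΩ^±_{2n}(q)`
-/

set_option autoImplicit false

namespace Cfsg.Agent.H101.RO

open QuadraticMap Matrix Module Cfsg
open Cfsg.Agent.LieClassical.OrthCore Cfsg.Agent.LieClassical.OrthForms
open Cfsg.Agent.H182.Sign Cfsg.Agent.H403.Classify

theorem pomega_sing_plus {F : Type} [Field F] (n : ℕ) (hn : 1 ≤ n) : ∃ u : Fin n ⊕ Fin n → F, u ≠ 0 ∧ plusForm n F u = 0 := by
  refine ⟨Pi.single (.inl ⟨0, hn⟩) 1, ?_, ?_⟩
  · intro h
    have := congrFun h (.inl ⟨0, hn⟩)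
    simp at this
  · rw [coe_plusForm]
    simp [quadFormPlus]

theorem pomega_sing_minus {F : Type} [Field F] (n : ℕ) (hn : 1 ≤ n) (a b : F) :
    ∃ u : (Fin n ⊕ Fin n) ⊕ Fin 2 → F, u ≠ 0 ∧ minusForm n F a b u = 0 := by
  refine ⟨Pi.single (.inl (.inl ⟨0, hn⟩)) 1, ?_, ?_⟩
  · intro h
    have := congrFun h (.inl (.inl ⟨0, hn⟩))
    simp at this
  · rw [coe_minusForm]
    simp [quadFormMinus]

/-- **`PΩ⁺_{2n}(q)`** -/
theorem pomegaPlus_row {G : Type*} [Group G] (h : Cfsg.IsPOmegaPlus G) : RealOdd G := by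
  classical
  obtain ⟨F, _, _, n, hn, ⟨e⟩⟩ := h
  refine RealOdd.congr e.symm ?_
  have hsg : Sg (plusForm n F) n 1 := sg_plusForm n
  have hs := pomega_sing_plus (F := F) n (by omega)
  by_cases h2 : (2 : F) = 0
  · have := pomega_even h2 hn hsg hs
    rwa [coe_plusForm] at this
  by_cases hA : (4 : ℤ) ∣ (Nat.card F : ℤ) ^ n - 1
  · have := pomega_odd_torus h2 hn hsg hs hA
    rwa [coe_plusForm] at this
  · have hodd : Odd (Fintype.card F) := by
      have := natCard_odd_of_two h2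
      rwa [Nat.card_eq_fintype_card, ← Nat.odd_iff] at this
    have hneg : ¬ ∃ g : isometryGroup F (⇑(plusForm n F)), g ∈ Omega F (⇑(plusForm n F)) ∧
        ((g : Matrix.GeneralLinearGroup (Fin n ⊕ Fin n) F) : Matrix (Fin n ⊕ Fin n) (Fin n ⊕ Fin n) F) = -1 := by
      rw [coe_plusForm, Cfsg.Agent.S0790.result rfl hodd n (by omega)]
      intro h
      apply hA
      have h1 : (Nat.card F : ℤ) ^ n = ((Fintype.card F ^ n : ℕ) : ℤ) := by
        rw [Nat.card_eq_fintype_card]; push_cast; rfl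
      rw [h1]
      omega
    have := pomega_odd_unip h2 (by omega) hsg hs hneg
    rwa [coe_plusForm] at this

/-- **`PΩ⁻_{2n}(q)`** -/
theorem pomegaMinus_row {G : Type*} [Group G] (h : Cfsg.IsPOmegaMinus G) : RealOdd G := by
  classical
  obtain ⟨F, _, _, n, a, b, hn, hab, ⟨e⟩⟩ := h
  refine RealOdd.congr e.symm ?_
  have hsg : Sg (minusForm (n - 1) F a b) n (-1) := by
    have := sg_minusForm (n - 1) (F := F) (a := a) (b := b) hab
    rwa [Nat.sub_add_cancel (by omega)] at this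
  have hs := pomega_sing_minus (F := F) (n - 1) (by omega) a b
  by_cases h2 : (2 : F) = 0
  · have := pomega_even h2 hn hsg hs
    rwa [coe_minusForm] at this
  by_cases hA : (4 : ℤ) ∣ (Nat.card F : ℤ) ^ n - (-1)
  · have := pomega_odd_torus h2 hn hsg hs hA
    rwa [coe_minusForm] at this
  · have hodd : Odd (Fintype.card F) := by
      have := natCard_odd_of_two h2
      rwa [Nat.card_eq_fintype_card, ← Nat.odd_iff] at this
    have hneg : ¬ ∃ g : isometryGroup F (⇑(minusForm (n - 1) F a b)), g ∈ Omega F (⇑(minusForm (n - 1) F a b)) ∧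
        ((g : Matrix.GeneralLinearGroup ((Fin (n - 1) ⊕ Fin (n - 1)) ⊕ Fin 2) F) :
          Matrix ((Fin (n - 1) ⊕ Fin (n - 1)) ⊕ Fin 2) ((Fin (n - 1) ⊕ Fin (n - 1)) ⊕ Fin 2) F) = -1 := by
      rw [coe_minusForm, Cfsg.Agent.S0791.result rfl hodd n (by omega) a b hab]
      intro h
      apply hA
      have h1 : (Nat.card F : ℤ) ^ n = ((Fintype.card F ^ n : ℕ) : ℤ) := by
        rw [Nat.card_eq_fintype_card]; push_cast; rfl
      rw [h1]
      omega
    have := pomega_odd_unip h2 (by omega) hsg hs hneg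
    rwa [coe_minusForm] at this

end Cfsg.Agent.H101.RO
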