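import Cfsg.Agent.H101.ROJJ
import Cfsg.Prelude.Def_Classical

/-!
# `RealOdd` for `PSL_n(q)`: the row of the classification
-/

set_option autoImplicit false
set_option linter.style.haveILetI false

namespace Cfsg.Agent.H101.RO

open Module

theorem natCard_odd_of_two {F : Type*} [Field F] [Finite F] (h2 : (2 : F) ≠ 0) : Nat.card F % 2 = 1 := by
  haveI : Fintype F := Fintype.ofFinite F
  rw [Nat.card_eq_fintype_card]
  exact FiniteField.odd_card_of_char_ne_two (fun h => h2 (by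
    haveI := ringChar.of_eq h
    exact CharP.cast_eq_zero F 2))

theorem exists_i_iff {F : Type*} [Field F] [Finite F] (h2 : (2 : F) ≠ 0) :
    (∃ i : F, i ^ 2 = -1) ↔ Nat.card F % 4 = 1 := by
  haveI : Fintype F := Fintype.ofFinite F
  have h1 := FiniteField.isSquare_neg_one_iff (F := F)
  have h3 := natCard_odd_of_two h2
  rw [Nat.card_eq_fintype_card] at h3 ⊢
  constructor
  · rintro ⟨i, hi⟩
    have := h1.1 ⟨i, by rw [← hi, sq]⟩
    omega
  · intro h
    obtain ⟨i, hi⟩ := h1.2 (by omega)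
    exact ⟨i, by rw [hi, sq]⟩

theorem psl_jj (F : Type) [Field F] [Finite F] (h2 : (2 : F) ≠ 0) {n : ℕ} (hn : 2 ≤ n) (hodd : Odd n)
    (hi : ¬ ∃ i : F, i ^ 2 = -1) : RealOdd (Matrix.ProjectiveSpecialLinearGroup (Fin (n + 1)) F) := by
  obtain ⟨p, hpc⟩ := CharP.exists F
  have hp : p.Prime := CharP.char_is_prime F p
  have hp2 : p ≠ 2 := by
    rintro rfl
    exact h2 (CharP.cast_eq_zero F 2)
  obtain ⟨k, hk, hord⟩ := Tr.exists_order_lam F n hp h2 hn
  have hfin : finrank F (Tr F n × F) = n + 1 := by rw [Module.finrank_prod, Tr.finrank_eq, Module.finrank_self]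
  set x : Module.End F (Tr F n × F) := LinearMap.mulLeft F ((Tr.lam F n, 1) : Tr F n × F) with hx
  set y : Module.End F (Tr F n × F) := LinearMap.prodMap (Tr.D F n).toLinearMap (((-1 : F) ^ (n / 2)) • LinearMap.id) with hy
  have hxy : x * y * x = y := by
    apply LinearMap.ext
    rintro ⟨u, t⟩
    refine Prod.ext ?_ ?_
    · show Tr.lam F n * Tr.D F n (Tr.lam F n * u) = Tr.D F n u
      rw [map_mul, ← mul_assoc, Tr.lam_mul_D, one_mul]
    · show (1 : F) * ((-1) ^ (n / 2) * (1 * t)) = (-1) ^ (n / 2) * t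
      rw [one_mul, one_mul]
  have hdety : LinearMap.det y = 1 := by
    rw [hy, LinearMap.det_prodMap, Tr.det_D, LinearMap.det_smul, LinearMap.det_id, Module.finrank_self, pow_one,
      mul_one, ← pow_add]
    exact Even.neg_one_pow ⟨_, rfl⟩
  have hord' : ∀ j, x ^ j = 1 ↔ p ^ k ∣ j := by
    intro j
    rw [hx, mulLeft_pow_eq_one_iff, ← hord, Prod.ext_iff]
    show Tr.lam F n ^ j = 1 ∧ (1 : F) ^ j = 1 ↔ _
    rw [one_pow, and_iff_left rfl]
  have hpk : Odd (p ^ k) := (hp.odd_of_ne_two hp2).pow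
  refine psl_crit (Module.finBasisOfFinrankEq F (Tr F n × F) hfin)
    (det_eq_one_of_inv (by rw [hdety]; exact one_ne_zero) hxy hpk ((hord' _).2 dvd_rfl)) hdety hxy hp hp2 hk hord' ?_
  intro g s hdet hcomm hsq
  have hs : s ≠ 0 := by
    rintro rfl
    have h3 := congrArg LinearMap.det hsq
    rw [zero_smul, map_mul, hdet, mul_one] at h3
    have h4 : LinearMap.det (0 : Module.End F (Tr F n × F)) = 0 := by
      rw [LinearMap.det_zero, hfin, zero_pow (by omega)]
    rw [h4] at h3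
    exact one_ne_zero h3
  rcases Tr.jj_sq F hp h2 hn (fun v => LinearMap.congr_fun hcomm v) hs hsq with h | ⟨t, -, ht⟩
  · exact h
  · exfalso
    rw [hdet, hodd.neg_pow] at ht
    obtain ⟨m, rfl⟩ := hodd
    exact hi ⟨t ^ (m + 1), by rw [← pow_mul]; linear_combination ht⟩

/-- `PSL_2(q)`, `q ≡ 3` modulo 4 -/
theorem psl_two (F : Type) [Field F] [Finite F] (h2 : (2 : F) ≠ 0) (hi : ¬ ∃ i : F, i ^ 2 = -1) (hq : 3 < Nat.card F) :
    RealOdd (Matrix.ProjectiveSpecialLinearGroup (Fin 2) F) := by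
  have hq4 : Nat.card F % 4 = 3 := by
    have h3 := natCard_odd_of_two h2
    have h4 : ¬ Nat.card F % 4 = 1 := fun h => hi ((exists_i_iff h2).2 h)
    omega
  obtain ⟨p, hp, hpd⟩ := Nat.exists_prime_and_dvd (n := (Nat.card F - 1) / 2) (by omega)
  have hp2 : p ≠ 2 := by
    rintro rfl
    omega
  have hpd' : p ∣ Nat.card F - 1 := hpd.trans ⟨2, by omega⟩
  obtain ⟨a, ha0, ha⟩ := exists_order hpd'
  have ha1 : a ≠ a⁻¹ := by
    intro h
    have h3 : a ^ 2 = 1 := by rw [sq]; nth_rewrite 2 [h]; exact mul_inv_cancel₀ ha0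
    exact hp2 ((Nat.prime_dvd_prime_iff_eq hp Nat.prime_two).1 ((ha 2).1 h3))
  have hfin : finrank F (F × F) = 2 := by rw [Module.finrank_prod, Module.finrank_self]
  have hgen : Algebra.adjoin F {((a, a⁻¹) : F × F)} = ⊤ := by
    set B := Algebra.adjoin F {((a, a⁻¹) : F × F)} with hB
    have hl : ((a, a⁻¹) : F × F) ∈ B := Algebra.subset_adjoin rfl
    have h1 : ((1, 0) : F × F) ∈ B := by
      have h3 : ((1, 0) : F × F) = (a - a⁻¹)⁻¹ • ((a, a⁻¹) - algebraMap F (F × F) a⁻¹) := by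
        refine Prod.ext ?_ ?_
        · show (1 : F) = (a - a⁻¹)⁻¹ * (a - a⁻¹)
          rw [inv_mul_cancel₀ (sub_ne_zero.2 ha1)]
        · show (0 : F) = (a - a⁻¹)⁻¹ * (a⁻¹ - a⁻¹)
          rw [sub_self, mul_zero]
      rw [h3]
      exact B.smul_mem (sub_mem hl (B.algebraMap_mem _)) _
    rw [eq_top_iff]
    rintro ⟨u, v⟩ -
    have h3 : ((u, v) : F × F) = algebraMap F (F × F) v + (u - v) • (1, 0) := by
      refine Prod.ext ?_ ?_
      · show u = v + (u - v) * 1
        ring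
      · show v = v + (u - v) * 0
        ring
    rw [h3]
    exact add_mem (B.algebraMap_mem _) (B.smul_mem h1 _)
  set b : Basis (Fin 2) F (F × F) := Module.finBasisOfFinrankEq F (F × F) hfin with hb
  set y : Module.End F (F × F) := LinearMap.prod (LinearMap.snd F F F) (-LinearMap.fst F F F) with hy
  have hdet : ∀ u v : F, LinearMap.det (LinearMap.mulLeft F ((u, v) : F × F)) = u * v := by
    intro u v
    have : LinearMap.mulLeft F ((u, v) : F × F) = LinearMap.prodMap (u • LinearMap.id) (v • LinearMap.id) := by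
      apply LinearMap.ext
      rintro ⟨u', v'⟩
      rfl
    rw [this, LinearMap.det_prodMap, LinearMap.det_smul, LinearMap.det_smul, LinearMap.det_id,
      Module.finrank_self, mul_one, mul_one, pow_one, pow_one]
  refine psl_alg b hgen (y := y) ?_ ?_ hp hp2 le_rfl (k := 1) ?_ ?_
  · rw [← LinearMap.det_toMatrix ((Basis.finTwoProd F)), Matrix.det_fin_two]
    simp [LinearMap.toMatrix_apply, hy]
  · rintro ⟨u, v⟩
    refine Prod.ext ?_ ?_
    · show a * (a⁻¹ * v) = v
      rw [← mul_assoc, mul_inv_cancel₀ ha0, one_mul]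
    · show a⁻¹ * -(a * u) = -u
      rw [mul_neg, ← mul_assoc, inv_mul_cancel₀ ha0, one_mul]
  · intro j
    rw [pow_one, ← ha, Prod.ext_iff]
    show a ^ j = 1 ∧ a⁻¹ ^ j = 1 ↔ _
    rw [inv_pow, inv_eq_one, and_self]
  · rintro ⟨u, v⟩ s hs hd hsq
    rw [hdet] at hd
    have h1 := (Prod.ext_iff.1 hsq).1
    have h3 := (Prod.ext_iff.1 hsq).2
    have h4 : u * u = v * v := h1.trans h3.symm
    rcases mul_self_eq_mul_self_iff.1 h4 with h | h
    · exact ⟨v, by rw [h]; rfl⟩
    · exfalso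
      exact hi ⟨v, by rw [h] at hd; linear_combination -hd⟩

/-- **`PSL_n(q)`** -/
theorem psl_row {G : Type*} [Group G] (h : Cfsg.IsPSL G) : RealOdd G := by
  obtain ⟨F, _, _, n, hn, hsmall, ⟨e⟩⟩ := h
  refine RealOdd.congr e.symm ?_
  by_cases h2 : (2 : F) = 0
  · exact psl_even F h2 hn
  by_cases h4 : n % 4 = 2
  · by_cases hi : ∃ i : F, i ^ 2 = -1
    · exact psl_unip F h2 hn (Or.inr hi)
    · by_cases hn2 : n = 2
      · subst hn2
        have h4' := hsmall rfl
        rw [← Nat.card_eq_fintype_card] at h4'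
        exact psl_two F h2 hi (by omega)
      · obtain ⟨m, rfl⟩ : ∃ m, n = m + 1 := ⟨n - 1, by omega⟩
        exact psl_jj F h2 (by omega) (by rw [Nat.odd_iff]; omega) hi
  · exact psl_unip F h2 hn (Or.inl h4)

end Cfsg.Agent.H101.RO
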