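import Cfsg.Agent.H101.RealOdd
import Cfsg.Agent.S1158
import Cfsg.Agent.S1159
import Cfsg.Agent.S1069

/-!
# `RealOdd` for the small Ree groups
-/

set_option autoImplicit false

namespace Cfsg.Agent.H101.RO

open Subgroup

theorem ree_odd_real {K : Type*} [Field K] [Fintype K] {m : ℕ} (hm : 1 ≤ m) (hK : Fintype.card K = 3 ^ (2 * m + 1)) :
    RealOdd ↥(Cfsg.Lie.twistedG2 K (3 ^ m)) := by
  classical
  have hA := Cfsg.Agent.S1158.result hm hK
  have hO := Cfsg.Agent.S1159.result hm hK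
  have hcard := Cfsg.Agent.S1069.result hK
  obtain ⟨s, hs⟩ : ∃ s, 3 ^ m = s := ⟨_, rfl⟩
  have hs3 : 3 ≤ s := by
    rw [← hs]
    calc 3 = 3 ^ 1 := rfl
      _ ≤ 3 ^ m := Nat.pow_le_pow_right (by norm_num) hm
  have hsodd : Odd s := by rw [← hs]; exact Odd.pow (by decide)
  have hs3d : 3 ∣ s := by rw [← hs]; exact dvd_pow_self 3 (by omega)
  have hq : 3 ^ (2 * m + 1) = 3 * (s * s) := by rw [← hs]; ring
  have hr : 3 ^ (m + 1) = 3 * s := by rw [← hs]; ring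
  rw [hq, hr] at hA hO
  rw [hq] at hcard
  haveI : Finite ↥(Cfsg.Lie.twistedG2 K (3 ^ m)) := by
    apply Nat.finite_of_card_ne_zero
    rw [hcard]
    have h0 : 0 < 3 * (s * s) := by positivity
    have h1 : 0 < 3 * (s * s) - 1 := by
      have : 9 ≤ s * s := Nat.mul_le_mul hs3 hs3
      omega
    positivity
  obtain ⟨A, hAc, hAk, hAN, hAA⟩ := hA (3 * (s * s) + 3 * s + 1, 6 * (3 * (s * s) + 3 * s + 1)) (by simp)
  simp only at hAk hAN
  obtain ⟨p, hp, hpd⟩ := Nat.exists_prime_and_dvd (n := 3 * (s * s) + 3 * s + 1) (by omega)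
  haveI : Fact p.Prime := ⟨hp⟩
  obtain ⟨x, hx⟩ := exists_prime_orderOf_dvd_card' p (show p ∣ Nat.card A by rw [hAk]; exact hpd)
  have hx' : orderOf (x : ↥(Cfsg.Lie.twistedG2 K (3 ^ m))) = p := by rw [Subgroup.orderOf_coe, hx]
  have hx1 : (x : ↥(Cfsg.Lie.twistedG2 K (3 ^ m))) ≠ 1 := by
    intro h
    rw [h, orderOf_one] at hx'
    exact hp.one_lt.ne hx'
  obtain ⟨t, ht⟩ := hsodd
  -- arithmetic
  have hodd1 : ¬ 2 ∣ 3 * (s * s) + 3 * s + 1 := by
    rw [ht]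
    intro h
    obtain ⟨c, hc⟩ := h
    ring_nf at hc
    omega
  have hp2 : p ≠ 2 := fun h => hodd1 (h ▸ hpd)
  have hp3 : p ≠ 3 := by
    rintro rfl
    have h1 : 3 ∣ 3 * (s * s) + 3 * s := Dvd.intro _ (by ring : 3 * (s * s + s) = _)
    have h2 : 3 ∣ 1 := (Nat.dvd_add_right h1).1 hpd
    omega
  -- no elements of order `2 p`
  have hno : ∀ g : ↥(Cfsg.Lie.twistedG2 K (3 ^ m)), orderOf g ≠ 2 * p := by
    intro g hg
    have hpz : (p : ℤ) ∣ 3 * ((s : ℤ) * s) + 3 * s + 1 := by exact_mod_cast hpd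
    have key : ∀ u : ℤ, (p : ℤ) ∣ u * (3 * ((s : ℤ) * s) + 3 * s + 1) → ∀ v : ℤ, u * (3 * ((s : ℤ) * s) + 3 * s + 1) = v →
      (p : ℤ) ∣ v := fun u h v e => e ▸ h
    rcases (hO (2 * p)).1 ⟨g, hg⟩ with h | h | h | h | h | h
    · have h1 : p ∣ 3 := Nat.dvd_of_mul_dvd_mul_left two_pos (show 2 * p ∣ 2 * 3 from h)
      exact hp3 ((Nat.prime_dvd_prime_iff_eq hp Nat.prime_three).1 h1)
    · have h1 : 2 ∣ 9 := (Dvd.intro _ rfl : 2 ∣ 2 * p).trans h
      omega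
    · -- `p ∣ q - 1`
      have h1 : p ∣ 3 * (s * s) - 1 := (Dvd.intro_left _ rfl : p ∣ 2 * p).trans h
      have h2 : (p : ℤ) ∣ 3 * ((s : ℤ) * s) - 1 := by
        have : ((3 * (s * s) - 1 : ℕ) : ℤ) = 3 * ((s : ℤ) * s) - 1 := by
          have : 1 ≤ 3 * (s * s) := by have : 9 ≤ s * s := Nat.mul_le_mul hs3 hs3; omega
          push_cast [Nat.cast_sub this]; ring
        rw [← this]; exact Int.natCast_dvd_natCast.2 h1
      -- difference : 3 s + 2; 3 * (q - 1) = (3s+2)(3s-2) + 1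
      have h3 : (p : ℤ) ∣ 3 * s + 2 := by
        have := Int.dvd_sub hpz h2
        have e : 3 * ((s : ℤ) * s) + 3 * s + 1 - (3 * ((s : ℤ) * s) - 1) = 3 * s + 2 := by ring
        rwa [e] at this
      have h4 : (p : ℤ) ∣ 1 := by
        have h5 := Int.dvd_sub (h2.mul_left 3) (h3.mul_left (3 * s - 2))
        have e : 3 * (3 * ((s : ℤ) * s) - 1) - (3 * s - 2) * (3 * s + 2) = 1 := by ring
        rwa [e] at h5
      exact hp.one_lt.ne' (Nat.dvd_one.1 (by exact_mod_cast h4))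
    · -- `p ∣ q + 1`
      have h1 : p ∣ 3 * (s * s) + 1 := by
        have h5 : p ∣ (3 * (s * s) + 1) / 2 := (Dvd.intro_left _ rfl : p ∣ 2 * p).trans h
        exact h5.trans (Nat.div_dvd_of_dvd (by
          rw [ht]
          exact ⟨6 * (t * t) + 6 * t + 2, by ring⟩))
      have h3 : p ∣ 3 * s := by
        have e : 3 * (s * s) + 3 * s + 1 = (3 * (s * s) + 1) + 3 * s := by ring
        rw [e] at hpd
        exact (Nat.dvd_add_right h1).1 hpd
      have h4 : p ∣ s := (hp.dvd_mul.1 h3).resolve_left fun h => hp3 ((Nat.prime_dvd_prime_iff_eq hp Nat.prime_three).1 h)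
      have h5 : p ∣ 3 * (s * s) := dvd_mul_of_dvd_right (dvd_mul_of_dvd_left h4 _) _
      exact hp.one_lt.ne' (Nat.dvd_one.1 ((Nat.dvd_add_right h5).1 h1))
    · have h1 : 2 ∣ 3 * (s * s) - 3 * s + 1 := (Dvd.intro _ rfl : 2 ∣ 2 * p).trans h
      have h2 : 3 * s ≤ 3 * (s * s) := Nat.mul_le_mul_left 3 (Nat.le_mul_self s)
      obtain ⟨c, hc⟩ := h1
      apply hodd1
      exact ⟨c + 3 * s, by omega⟩
    · exact hodd1 ((Dvd.intro _ rfl : 2 ∣ 2 * p).trans h)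
  refine RealOdd.of_norm_even hp hp2 le_rfl (x := (x : ↥(Cfsg.Lie.twistedG2 K (3 ^ m)))) (by rw [hx', pow_one]) ?_ ?_
  · rw [hAA (zpowers (x : ↥(Cfsg.Lie.twistedG2 K (3 ^ m)))) (zpowers_le.2 x.2) (by rwa [Ne, zpowers_eq_bot]), hAN]
    exact Dvd.intro (3 * (3 * (s * s) + 3 * s + 1)) (by ring)
  · refine odd_centralizer fun u hu h => hno (u * x) ?_
    rw [(show Commute u (x : ↥(Cfsg.Lie.twistedG2 K (3 ^ m))) from h).orderOf_mul_eq_mul_orderOf_of_coprime (by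
      rw [hu, hx']; exact (Nat.coprime_primes Nat.prime_two hp).2 hp2.symm), hu, hx']

/-- **small Ree groups** -/
theorem ree_row {G : Type*} [Group G] (h : Cfsg.Lie.IsoRee G) : RealOdd G := by
  obtain ⟨K, _, _, m, hm, hK, ⟨e⟩⟩ := h
  exact RealOdd.congr e.symm (ree_odd_real hm hK)

end Cfsg.Agent.H101.RO
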