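import Cfsg.Agent.H101.ROPslRow
import Cfsg.Agent.H150.SpForm

/-!
# `RealOdd` for `PSp_{2m}(q)`
-/

set_option autoImplicit false
set_option linter.style.haveILetI false

namespace Cfsg.Agent.H101.RO

open Module Cfsg
open Cfsg.Agent.ClassicalGeometry.SympBasic Cfsg.Agent.ClassicalGeometry.SympIso
open Cfsg.Agent.LieClassical.SympCenter

/-- **The criterion for `PSp`.** -/
theorem psp_crit {F : Type*} [Field F] [Finite F] {m : ℕ} (hm : 1 ≤ m) {V : Type*} [AddCommGroup V] [Module F V]
    [FiniteDimensional F V]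
    (B : LinearMap.BilinForm F V) (hA : B.IsAlt) (hnd : ∀ u, (∀ v, B u v = 0) → u = 0) (hfin : finrank F V = 2 * m)
    {x y : Module.End F V} (hx : ∀ u v, B (x u) (x v) = B u v) (hy : ∀ u v, B (y u) (y v) = B u v)
    (hxy : x * y * x = y) {p k : ℕ} (hp : p.Prime) (hp2 : p ≠ 2) (hk : 1 ≤ k) (hord : ∀ j, x ^ j = 1 ↔ p ^ k ∣ j)
    (hc : ∀ (g : Module.End F V), (∀ u v, B (g u) (g v) = B u v) → g * x = x * g → (g * g = 1 ∨ g * g = -1) →
      g = 1 ∨ g = -1) : RealOdd (PSp m F) := by
  obtain ⟨e, he⟩ := exists_linearEquiv_sympForm B hA hnd hfin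
  let φ : Module.End F V ≃ₐ[F] Matrix (Fin m ⊕ Fin m) (Fin m ⊕ Fin m) F :=
    (e.symm.conjAlgEquiv F).trans LinearMap.toMatrixAlgEquiv'
  have hφ : ∀ (T : Module.End F V) x, (φ T).mulVec x = e.symm (T (e x)) := by
    intro T x
    show (LinearMap.toMatrix' (e.symm.conj T)).mulVec x = _
    rw [LinearMap.toMatrix'_mulVec]
    rfl
  have hmem : ∀ T : Module.End F V, (∀ u v, B (T u) (T v) = B u v) → φ T ∈ Matrix.symplecticGroup (Fin m) F := by
    intro T hT
    rw [mem_symplecticGroup_iff]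
    intro x y
    rw [hφ, hφ, ← he, ← he, e.apply_symm_apply, e.apply_symm_apply, hT]
  let ρ : Matrix.symplecticGroup (Fin m) F →* Module.End F V :=
    { toFun := fun A => φ.symm A.1
      map_one' := map_one φ.symm
      map_mul' := fun A B => map_mul φ.symm A.1 B.1 }
  have hρ : ∀ A, ρ A = φ.symm A.1 := fun _ => rfl
  have hiso : ∀ A u v, B (ρ A u) (ρ A v) = B u v := by
    intro A u v
    have h1 : ∀ w, ρ A w = e (A.1.mulVec (e.symm w)) := by
      intro w
      have h2 := hφ (φ.symm A.1) (e.symm w)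
      rw [AlgEquiv.apply_symm_apply, LinearEquiv.apply_symm_apply] at h2
      rw [h2, LinearEquiv.apply_symm_apply, hρ]
    rw [h1, h1, he, mem_symplecticGroup_iff.1 A.2, ← he, e.apply_symm_apply, e.apply_symm_apply]
  have hXe : ρ ⟨φ x, hmem x hx⟩ = x := φ.symm_apply_apply x
  have hYe : ρ ⟨φ y, hmem y hy⟩ = y := φ.symm_apply_apply y
  have hcen : ∀ A, A ∈ Subgroup.center (Matrix.symplecticGroup (Fin m) F) ↔ ∃ s : F, ρ A = s • (1 : Module.End F V) := by
    intro A
    rw [mem_center_iff]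
    constructor
    · rintro ⟨a, ha⟩
      exact ⟨a, by rw [hρ, ha, map_smul, map_one]⟩
    · rintro ⟨a, ha⟩
      refine ⟨a, ?_⟩
      rw [hρ] at ha
      have := congrArg φ ha
      rwa [AlgEquiv.apply_symm_apply, map_smul, map_one] at this
  refine proj_crit ρ (fun A A' h => Subtype.ext (φ.symm.injective h)) hcen (X := ⟨φ x, hmem x hx⟩)
    (Y := ⟨φ y, hmem y hy⟩) (by rw [hXe, hYe, hxy]) hp hp2 hk (by rw [hXe]; exact hord) ?_
  intro A s hcomm hsq
  rw [hXe] at hcomm
  have h1 : A * A ∈ Subgroup.center (Matrix.symplecticGroup (Fin m) F) := (hcen _).2 ⟨s, by rw [map_mul, hsq]⟩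
  rw [mem_center_iff] at h1
  obtain ⟨a, ha⟩ := h1
  have h2 := sq_eq_one_of_smul_mem hm (ha ▸ (A * A).2)
  have hsq' : ρ A * ρ A = a • 1 := by
    rw [← map_mul, hρ, ha, map_smul, map_one]
  rcases hc (ρ A) (hiso A) hcomm (by
    rcases mul_self_eq_one_iff.1 h2 with rfl | rfl
    · left; rw [hsq', one_smul]
    · right; rw [hsq', neg_smul, one_smul]) with h | h
  · exact ⟨1, by rw [h, one_smul]⟩
  · exact ⟨-1, by rw [h, neg_smul, one_smul]⟩

/-- **Algebra criterion for `PSp`.** -/
theorem psp_alg {F : Type*} [Field F] [Finite F] {m : ℕ} (hm : 1 ≤ m) {A : Type*} [CommRing A] [Algebra F A]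
    (hfin : finrank F A = 2 * m) (D : A →ₐ[F] A) (hDD : ∀ v, D (D v) = v) (l : A →ₗ[F] F)
    (hl : ∀ w, D w = w → l w = 0) (hnd : ∀ u, (∀ v, l (u * v) = 0) → u = 0) {lam β : A}
    (hlam : lam * D lam = 1) (hβ : β * D β = -1) (hgen : Algebra.adjoin F {lam} = ⊤)
    {p k : ℕ} (hp : p.Prime) (hp2 : p ≠ 2) (hk : 1 ≤ k) (hord : ∀ j, lam ^ j = 1 ↔ p ^ k ∣ j)
    (hc : ∀ a : A, a * D a = 1 → (a * a = 1 ∨ a * a = -1) → a = 1 ∨ a = -1) : RealOdd (PSp m F) := by
  haveI : FiniteDimensional F A := FiniteDimensional.of_finrank_pos (by omega)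
  have hlD : ∀ w, l (D w) = -l w := by
    intro w
    have := hl (w + D w) (by rw [map_add, hDD, add_comm])
    rw [map_add] at this
    linear_combination this
  let B : LinearMap.BilinForm F A := (LinearMap.mul F A).compr₂ l |>.compl₂ D.toLinearMap
  have hB : ∀ u v, B u v = l (u * D v) := fun _ _ => rfl
  have hBnd : ∀ u, (∀ v, B u v = 0) → u = 0 := by
    intro u hu
    refine hnd u fun v => ?_
    have := hu (D v)
    rwa [hB, hDD] at this
  have hiso : ∀ a : A, a * D a = 1 → ∀ u v, B (a * u) (a * v) = B u v := by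
    intro a ha u v
    rw [hB, hB, map_mul D]
    have : a * u * (D a * D v) = (a * D a) * (u * D v) := by ring
    rw [this, ha, one_mul]
  refine psp_crit hm B ?_ hBnd hfin (x := LinearMap.mulLeft F lam) (y := LinearMap.mulLeft F β * D.toLinearMap)
    (hiso lam hlam) ?_ ?_ hp hp2 hk (fun j => by rw [mulLeft_pow_eq_one_iff, hord]) ?_
  · intro u
    rw [hB]
    exact hl _ (by rw [map_mul, hDD, mul_comm])
  · intro u v
    show B (β * D u) (β * D v) = B u v
    rw [hB, hB, map_mul D, hDD]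
    have : β * D u * (D β * v) = (β * D β) * (D (u * D v)) := by rw [map_mul, hDD]; ring
    rw [this, hβ, neg_one_mul, map_neg, hlD, neg_neg]
  · ext v
    show lam * (β * D (lam * v)) = β * D v
    rw [map_mul]
    have : lam * (β * (D lam * D v)) = (lam * D lam) * (β * D v) := by ring
    rw [this, hlam, one_mul]
  · intro g hg hcomm hsq
    have hgm := exists_mulLeft_of_comm hgen hcomm
    set a := g 1 with ha
    have h1 : a * D a = 1 := by
      have h2 : a * D a - 1 = 0 := by
        refine hnd _ fun v => ?_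
        have h3 := hg 1 (D v)
        rw [hgm] at h3
        rw [hB, hB, LinearMap.mulLeft_apply, LinearMap.mulLeft_apply, map_mul D, hDD] at h3
        have : (a * D a - 1) * v = a * 1 * (D a * v) - 1 * v := by ring
        rw [this, map_sub, h3, sub_self]
      linear_combination h2
    have h2 : a * a = 1 ∨ a * a = -1 := by
      have h3 : a * a = (g * g) 1 := by
        rw [Module.End.mul_apply, ← ha, hgm]; rfl
      rcases hsq with h | h
      · left; rw [h3, h]; rfl
      · right; rw [h3, h]; rfl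
    rcases hc a h1 h2 with h | h
    · left; rw [hgm, h]; ext v; exact one_mul v
    · right; rw [hgm, h]; ext v; exact neg_one_mul v

/-- the functional `T - T ∘ D` -/
theorem exists_l {F : Type*} [Field F] [Finite F] {K : Type*} [Field K] [Finite K] [Algebra F K] (D : K ≃ₐ[F] K)
    (hD : ∃ c, D c ≠ c) :
    ∃ l : K →ₗ[F] F, (∀ w, D w = w → l w = 0) ∧ (∀ u, (∀ v, l (u * v) = 0) → u = 0) := by
  haveI : Module.Finite F K := inferInstance
  obtain ⟨c, hc⟩ := hD
  obtain ⟨t, ht⟩ := Algebra.trace_surjective F K 1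
  refine ⟨Algebra.trace F K ∘ₗ LinearMap.mulLeft F (c - D c), ?_, ?_⟩
  · intro w hw
    rw [LinearMap.comp_apply, LinearMap.mulLeft_apply, sub_mul, map_sub]
    have : Algebra.trace F K (D c * w) = Algebra.trace F K (c * w) := by
      conv_lhs => rw [← hw, ← map_mul]
      exact Algebra.trace_eq_of_algEquiv D (c * w)
    rw [this, sub_self]
  · intro u hu
    by_contra hu0
    have h1 := hu ((c - D c)⁻¹ * u⁻¹ * t)
    rw [LinearMap.comp_apply, LinearMap.mulLeft_apply] at h1
    have hcD : c - D c ≠ 0 := sub_ne_zero.2 (Ne.symm hc)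
    have h2 : (c - D c) * (u * ((c - D c)⁻¹ * u⁻¹ * t)) = t := by field_simp
    rw [h2, ht] at h1
    exact one_ne_zero h1

/-- an element of norm `-1` -/
theorem exists_norm_neg_one {F : Type*} [Field F] [Finite F] {K : Type*} [Field K] [Finite K] {m : ℕ}
    (hK : Nat.card K = Nat.card F ^ (2 * m)) (hm : 1 ≤ m) : ∃ β : K, β * β ^ (Nat.card F ^ m) = -1 := by
  by_cases h2 : (2 : K) = 0
  · refine ⟨1, ?_⟩
    rw [one_pow, mul_one]
    linear_combination h2
  have hq : 1 < Nat.card F := Finite.one_lt_card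
  have hKodd := natCard_odd_of_two h2
  set Q := Nat.card F ^ m with hQ
  have hQ1 : 1 < Q := Nat.one_lt_pow (by omega) hq
  have hKQ : Nat.card K = Q * Q := by rw [hK, two_mul, pow_add]
  have hQodd : Q % 2 = 1 := by
    rw [hKQ] at hKodd
    by_contra h
    have : Q % 2 = 0 := by omega
    rw [Nat.mul_mod, this] at hKodd
    norm_num at hKodd
  obtain ⟨g, hg0, hg⟩ := exists_order (K := K) (P := Nat.card K - 1) dvd_rfl
  refine ⟨g ^ ((Q - 1) / 2), ?_⟩
  rw [← pow_mul, ← pow_add]
  have h3 : (Q - 1) / 2 + (Q - 1) / 2 * Q = (Nat.card K - 1) / 2 := by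
    rw [hKQ]
    obtain ⟨t, ht⟩ : ∃ t, Q = 2 * t + 1 := ⟨Q / 2, by omega⟩
    have e1 : (Q - 1) / 2 = t := by omega
    have e2 : (Q * Q - 1) / 2 = t + t * Q := by
      have : Q * Q - 1 = 2 * (t + t * Q) := by
        rw [ht]
        have : (2 * t + 1) * (2 * t + 1) = 2 * (t + t * (2 * t + 1)) + 1 := by ring
        omega
      omega
    rw [e1, e2]
  rw [h3]
  have hc2 : 2 * ((Nat.card K - 1) / 2) = Nat.card K - 1 := by omega
  have h4 : g ^ ((Nat.card K - 1) / 2) * g ^ ((Nat.card K - 1) / 2) = 1 := by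
    rw [← pow_add, ← two_mul, hc2]
    exact (hg _).2 dvd_rfl
  rcases mul_self_eq_one_iff.1 h4 with h | h
  · exfalso
    have h5 := Nat.le_of_dvd (by
      have : 1 < Nat.card K := Finite.one_lt_card
      omega) ((hg _).1 h)
    have : 1 < Nat.card K := Finite.one_lt_card
    omega
  · exact h

theorem psp_field (F : Type) [Field F] [Finite F] {m : ℕ} (hm : 1 ≤ m) (h1 : m = 1 → ¬ ∃ k, Nat.card F + 1 = 2 ^ k)
    (h4 : (2 : F) = 0 ∨ Nat.card F ^ m % 4 = 1) : RealOdd (PSp m F) := by
  obtain ⟨K, _, _, _, D, lam, p, k, hfin, hDv, hDD, hlamD, hp, hp2, hk, hord, hgen, -, -⟩ := exists_field F hm h1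
  have hcard : Nat.card K = Nat.card F ^ (2 * m) := by
    rw [← hfin]; exact Module.natCard_eq_pow_finrank
  have hD : ∃ c, D c ≠ c := by
    refine ⟨lam, fun h => ?_⟩
    rw [h] at hlamD
    have h3 := (hord 2).1 (by rw [sq]; exact hlamD)
    have h5 : p ∣ 2 := (dvd_pow_self p (by omega)).trans h3
    exact hp2 ((Nat.prime_dvd_prime_iff_eq hp Nat.prime_two).1 h5)
  obtain ⟨l, hl, hnd⟩ := exists_l D hD
  obtain ⟨β, hβ⟩ := exists_norm_neg_one hcard hm
  refine psp_alg hm hfin D.toAlgHom hDD l hl hnd hlamD (β := β) (by rw [← hβ]; congr 1; exact hDv β) hgen hp hp2 hk hord ?_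
  intro a ha hsq
  have hone : a * a = 1 → a = 1 ∨ a = -1 := mul_self_eq_one_iff.1
  rcases hsq with h | h
  · exact hone h
  · rcases h4 with h2 | h4
    · have : (2 : K) = 0 := by rw [← map_ofNat (algebraMap F K), h2, map_zero]
      exact hone (by rw [h]; linear_combination -this)
    · exfalso
      have h3 : a * a ^ (Nat.card F ^ m) = 1 := by rw [← ha]; congr 1; exact (hDv a).symm
      rw [← pow_succ'] at h3
      obtain ⟨t, ht⟩ : ∃ t, Nat.card F ^ m + 1 = 2 * (2 * t + 1) := ⟨Nat.card F ^ m / 4, by omega⟩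
      rw [ht, pow_mul, sq, h, Odd.neg_one_pow ⟨t, rfl⟩] at h3
      have h2 : (2 : F) ≠ 0 := by
        intro h2
        have h5 := even_card_two h2
        have h6 : 2 ∣ Nat.card F ^ m := h5.trans (dvd_pow_self _ (by omega))
        omega
      apply h2
      have h6 : (2 : K) = 0 := by linear_combination -h3
      have h7 : algebraMap F K 2 = algebraMap F K 0 := by rw [map_ofNat, h6, map_zero]
      exact (algebraMap F K).injective h7

theorem psp_split (F : Type) [Field F] [Finite F] {m : ℕ} (hm : Odd m) (hm3 : 3 ≤ m) (h4 : Nat.card F % 4 = 3) :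
    RealOdd (PSp m F) := by
  have hq : 2 ≤ Nat.card F := Finite.one_lt_card
  obtain ⟨r, hr, hm', hd, hrq⟩ := Cfsg.Agent.Lib.Zsigmondy.exists_primitive (a := Nat.card F) (n := m) hq (by omega)
    (fun h => by omega) (fun h => by omega)
  have hr2 : r ≠ 2 := by
    rintro rfl
    have := Nat.le_of_dvd (by norm_num) hd
    omega
  obtain ⟨L, _, _, _, lam, hfin, hord, hlam0, hgen⟩ := exists_split F hm hr hr2 hm'
  have hcard : Nat.card L = Nat.card F ^ m := by
    rw [← hfin]; exact Module.natCard_eq_pow_finrank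
  have h2F : (2 : F) ≠ 0 := by
    intro h2
    have h5 := even_card_two h2
    omega
  have h2L : (2 : L) ≠ 0 := by
    intro h2
    apply h2F
    have h7 : algebraMap F L 2 = algebraMap F L 0 := by rw [map_ofNat, h2, map_zero]
    exact (algebraMap F L).injective h7
  have hfin' : finrank F (L × L) = 2 * m := by rw [Module.finrank_prod, hfin, two_mul]
  obtain ⟨t, ht⟩ := Algebra.trace_surjective F L 1
  have hnt : ∀ u : L, (∀ v, Algebra.trace F L (u * v) = 0) → u = 0 := by
    intro u hu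
    by_contra hu0
    have := hu (u⁻¹ * t)
    rw [← mul_assoc, mul_inv_cancel₀ hu0, one_mul, ht] at this
    exact one_ne_zero this
  let l : (L × L) →ₗ[F] F := Algebra.trace F L ∘ₗ LinearMap.fst F L L - Algebra.trace F L ∘ₗ LinearMap.snd F L L
  have hl : ∀ u v, l (u, v) = Algebra.trace F L u - Algebra.trace F L v := fun _ _ => rfl
  let D : (L × L) →ₐ[F] (L × L) := AlgHom.prod (AlgHom.snd F L L) (AlgHom.fst F L L)
  have hDv : ∀ u v : L, D (u, v) = (v, u) := fun _ _ => rfl
  refine psp_alg (by omega) hfin' D (fun _ => rfl) l ?_ ?_ (lam := (lam, lam⁻¹)) (β := (1, -1)) ?_ ?_ hgen hr hr2 le_rfl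
    (k := 1) ?_ ?_
  · rintro ⟨u, v⟩ h
    rw [hDv] at h
    have : v = u := congrArg Prod.fst h
    rw [hl, this, sub_self]
  · rintro ⟨u, v⟩ h
    refine Prod.ext (hnt u fun w => ?_) (hnt v fun w => ?_)
    · have := h (w, 0)
      rw [Prod.mk_mul_mk, mul_zero, hl, map_zero, sub_zero] at this
      exact this
    · have := h (0, w)
      rw [Prod.mk_mul_mk, mul_zero, hl, map_zero, zero_sub, neg_eq_zero] at this
      exact this
  · rw [hDv, Prod.mk_mul_mk, mul_inv_cancel₀ hlam0, inv_mul_cancel₀ hlam0]; rfl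
  · rw [hDv, Prod.mk_mul_mk, one_mul, mul_one]; rfl
  · intro j
    rw [pow_one, ← hord, Prod.ext_iff]
    show lam ^ j = 1 ∧ lam⁻¹ ^ j = 1 ↔ _
    rw [inv_pow, inv_eq_one, and_self]
  · rintro ⟨u, v⟩ ha hsq
    rw [hDv, Prod.mk_mul_mk, Prod.ext_iff] at ha
    have huv : u * v = 1 := ha.1
    rcases hsq with h | h
    · have h1 : u * u = 1 := congrArg Prod.fst h
      have hv : v = u := by
        have hu0 : u ≠ 0 := by rintro rfl; rw [zero_mul] at h1; exact zero_ne_one h1
        exact mul_left_cancel₀ hu0 (huv.trans h1.symm)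
      rw [hv]
      rcases mul_self_eq_one_iff.1 h1 with h | h
      · left; rw [h]; rfl
      · right; rw [h]; rfl
    · exfalso
      have h1 : u * u = -1 := congrArg Prod.fst h
      have h3 := (exists_i_iff h2L).1 ⟨u, by rw [sq, h1]⟩
      rw [hcard] at h3
      obtain ⟨c, rfl⟩ := hm
      rw [pow_succ, pow_mul, Nat.mul_mod, Nat.pow_mod, Nat.pow_mod _ 2, h4] at h3
      norm_num at h3

/-- **`PSp_{2m}(q)`** -/
theorem psp_row {G : Type*} [Group G] (h : Cfsg.IsPSp G) : RealOdd G := by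
  obtain ⟨F, _, _, m, hm, hsmall, ⟨e⟩⟩ := h
  refine RealOdd.congr e.symm ?_
  by_cases h2 : (2 : F) = 0
  · exact psp_field F (by omega) (fun h => by omega) (Or.inl h2)
  have hodd := natCard_odd_of_two h2
  by_cases h4 : Nat.card F ^ m % 4 = 1
  · exact psp_field F (by omega) (fun h => by omega) (Or.inr h4)
  · have hq3 : Nat.card F % 4 = 3 := by
      have : Nat.card F % 4 = 1 ∨ Nat.card F % 4 = 3 := by omega
      refine this.resolve_left fun h => h4 ?_
      rw [Nat.pow_mod, h, one_pow]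
      rfl
    have hmodd : Odd m := by
      rw [← Nat.not_even_iff_odd]
      rintro ⟨t, rfl⟩
      apply h4
      rw [← two_mul, pow_mul, Nat.pow_mod, Nat.pow_mod _ 2, hq3]
      norm_num
    refine psp_split F hmodd ?_ hq3
    obtain ⟨t, rfl⟩ := hmodd
    omega

end Cfsg.Agent.H101.RO
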