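import Mathlib
import Cfsg.Prelude.Def_LieExceptional
import Cfsg.Agent.H101.SzAbs
import Cfsg.Agent.LieExceptional.SuzukiBasic
import Cfsg.Agent.LieExceptional.SuzukiSylow
import Cfsg.Agent.LieExceptional.SuzukiCN
import Cfsg.Agent.LieExceptional.SuzukiHyp
import Cfsg.Agent.S0327
import Cfsg.Agent.S0328
import Cfsg.Agent.S0333

/-!
# The Suzuki groups satisfy `Geo`

Together with the trichotomy of nonidentity elements by the number of fixed points.
-/

set_option autoImplicit false

namespace Cfsg.Agent.H101.SzGeo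

open MulAction Cfsg.Agent.H101.SzAbs
open Cfsg.Agent.LieExceptional Cfsg.Agent.LieExceptional.SuzukiBasic
open Cfsg.Agent.LieExceptional.SuzukiSylow Cfsg.Agent.LieExceptional.SuzukiCN
open scoped MatrixGroups

variable {F : Type*} [Field F] [Fintype F] {m : ℕ}

/-- the point at infinity on the ovoid -/
def inf (F : Type*) [Field F] (m : ℕ) : Cfsg.suzukiOvoid F m :=
  ⟨Cfsg.suzukiPointInfinity F, infinity_mem_ovoid m⟩

/-- the point zero on the ovoid -/
def zer (F : Type*) [Field F] (m : ℕ) : Cfsg.suzukiOvoid F m :=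
  ⟨Cfsg.suzukiPointZero F, zero_mem_ovoid m⟩

omit [Fintype F] in
theorem inf_ne_zer : inf F m ≠ zer F m := fun h => zero_ne_infinity (congrArg Subtype.val h).symm

theorem finite_ovoid (F : Type*) [Field F] [Finite F] (m : ℕ) : Finite (Cfsg.suzukiOvoid F m) :=
  Finite.of_equiv _ (ovoidEquiv F m)

/-- Characterisation of `Q`. -/
theorem mem_Q (hm : 1 ≤ m) (hF : Fintype.card F = 2 ^ (2 * m + 1)) (x : Cfsg.Sz F m) :
    x ∈ Q hF ↔ x = 1 ∨ ∀ b, x • b = b ↔ b = inf F m := by
  constructor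
  · intro hx
    obtain ⟨a, b, rfl⟩ := (mem_Q_iff hF x).1 hx
    by_cases hab : a = 0 ∧ b = 0
    · left
      rw [hab.1, hab.2]
      exact u_zero_zero hF
    · right
      intro c
      constructor
      · intro hc
        apply Subtype.ext
        exact fixed_of_U hF hab c.2 (congrArg Subtype.val hc)
      · rintro rfl
        apply Subtype.ext
        exact U_smul_infinity a b
  · rintro (rfl | hx)
    · exact one_mem _
    · have h1 : x • inf F m = inf F m := (hx _).2 rfl
      obtain ⟨a, b, hab⟩ := eq_U_of_fix_only_infinity hm hF x.2 (congrArg Subtype.val h1) (by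
        intro p hp hxp
        exact congrArg Subtype.val ((hx ⟨p, hp⟩).1 (Subtype.ext hxp)))
      rw [mem_Q_iff]
      exact ⟨a, b, Subtype.ext hab⟩

/-- transitivity -/
theorem exists_smul_inf (hF : Fintype.card F = 2 ^ (2 * m + 1)) (a : Cfsg.suzukiOvoid F m) :
    ∃ g : Cfsg.Sz F m, g • inf F m = a := by
  have h2 := two_pretransitive (F := F) (m := m) hF
  have := MulAction.isPretransitive_of_is_two_pretransitive (G := Cfsg.Sz F m) (h2 := h2)
  exact MulAction.exists_smul_eq (Cfsg.Sz F m) (inf F m) a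

theorem exists_smul_pair (hF : Fintype.card F = 2 ^ (2 * m + 1)) {a b : Cfsg.suzukiOvoid F m}
    (hab : a ≠ b) : ∃ g : Cfsg.Sz F m, g • inf F m = a ∧ g • zer F m = b := by
  have h2 := two_pretransitive (F := F) (m := m) hF
  rw [MulAction.is_two_pretransitive_iff] at h2
  exact h2 inf_ne_zer hab

/-- The Sylow `2`-subgroup of the stabiliser of `a`. -/
noncomputable def P (hF : Fintype.card F = 2 ^ (2 * m + 1)) (a : Cfsg.suzukiOvoid F m) :
    Subgroup (Cfsg.Sz F m) :=
  (Q hF).map (MulAut.conj (Classical.choose (exists_smul_inf hF a))).toMonoidHom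

theorem mem_P_iff_conj (hF : Fintype.card F = 2 ^ (2 * m + 1)) (a : Cfsg.suzukiOvoid F m)
    (x : Cfsg.Sz F m) : x ∈ P hF a ↔ (Classical.choose (exists_smul_inf hF a))⁻¹ * x *
      Classical.choose (exists_smul_inf hF a) ∈ Q hF := by
  set g := Classical.choose (exists_smul_inf hF a) with hg
  constructor
  · rintro ⟨y, hy, rfl⟩
    have : g⁻¹ * (MulAut.conj g).toMonoidHom y * g = y := by
      simp only [MulEquiv.coe_toMonoidHom, MulAut.conj_apply]
      group
    rw [this]
    exact hy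
  · intro h
    refine ⟨g⁻¹ * x * g, h, ?_⟩
    show (MulAut.conj g) (g⁻¹ * x * g) = x
    rw [MulAut.conj_apply]
    group

/-- **Characterisation of `P a`.** -/
theorem mem_P (hm : 1 ≤ m) (hF : Fintype.card F = 2 ^ (2 * m + 1)) (a : Cfsg.suzukiOvoid F m)
    (x : Cfsg.Sz F m) : x ∈ P hF a ↔ x = 1 ∨ ∀ b, x • b = b ↔ b = a := by
  rw [mem_P_iff_conj, mem_Q hm hF]
  have hg := Classical.choose_spec (exists_smul_inf hF a)
  set g := Classical.choose (exists_smul_inf hF a)
  apply or_congr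
  · constructor
    · intro h
      calc x = g * (g⁻¹ * x * g) * g⁻¹ := by group
        _ = 1 := by rw [h]; group
    · rintro rfl
      group
  · have key : ∀ b : Cfsg.suzukiOvoid F m, (g⁻¹ * x * g) • b = b ↔ x • (g • b) = g • b := by
      intro b
      rw [mul_smul, mul_smul, inv_smul_eq_iff]
    constructor
    · intro h b
      have := h (g⁻¹ • b)
      rw [key, smul_inv_smul] at this
      rw [this, inv_smul_eq_iff, hg]
    · intro h b
      rw [key, h, ← hg]
      exact smul_left_cancel_iff g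

/-- conjugation -/
theorem conj_mem_P (hm : 1 ≤ m) (hF : Fintype.card F = 2 ^ (2 * m + 1)) (g : Cfsg.Sz F m)
    (a : Cfsg.suzukiOvoid F m) (x : Cfsg.Sz F m) (hx : x ∈ P hF a) : g * x * g⁻¹ ∈ P hF (g • a) := by
  rw [mem_P hm hF] at hx ⊢
  rcases hx with rfl | hx
  · left; group
  · right
    intro b
    rw [mul_smul, mul_smul, smul_eq_iff_eq_inv_smul, hx, inv_smul_eq_iff]

theorem P_inf (hm : 1 ≤ m) (hF : Fintype.card F = 2 ^ (2 * m + 1)) : P hF (inf F m) = Q hF := by
  ext x
  rw [mem_P hm hF, mem_Q hm hF]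

theorem mem_P_smul (hm : 1 ≤ m) (hF : Fintype.card F = 2 ^ (2 * m + 1)) (g : Cfsg.Sz F m)
    (x : Cfsg.Sz F m) : x ∈ P hF (g • inf F m) ↔ g⁻¹ * x * g ∈ Q hF := by
  rw [← P_inf hm hF]
  constructor
  · intro h
    have := conj_mem_P hm hF g⁻¹ _ x h
    rwa [inv_smul_smul, inv_inv] at this
  · intro h
    have := conj_mem_P hm hF g _ _ h
    have e : g * (g⁻¹ * x * g) * g⁻¹ = x := by group
    rwa [e] at this

/-- **The Suzuki groups satisfy the axioms.** -/
theorem geo (hm : 1 ≤ m) (hF : Fintype.card F = 2 ^ (2 * m + 1)) :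
    Geo (Cfsg.Sz F m) (Cfsg.suzukiOvoid F m) (P hF) where
  three := (Cfsg.Agent.S0327.result hm hF).2.2.1
  le a x hx := by
    rw [mem_P hm hF] at hx
    rcases hx with rfl | hx
    · exact one_smul _ _
    · exact (hx a).2 rfl
  conj g a x hx := conj_mem_P hm hF g a x hx
  two a := (isPGroup_Q hF).map _
  fix t ht ht1 := by
    have hfact : Fact (Nat.Prime 2) := ⟨Nat.prime_two⟩
    have hp : IsPGroup 2 (Subgroup.zpowers t) := by
      apply (IsPGroup.iff_card (p := 2) (G := Subgroup.zpowers t)).2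
      refine ⟨1, ?_⟩
      rw [Nat.card_zpowers, pow_one]
      exact orderOf_eq_prime (by rw [pow_two]; exact ht) ht1
    obtain ⟨S, hS⟩ := hp.exists_le_sylow
    obtain ⟨g, hg⟩ := MulAction.exists_smul_eq (Cfsg.Sz F m) (sylowQ hm hF) S
    refine ⟨g • inf F m, ?_⟩
    rw [mem_P_smul hm hF]
    have h1 : t ∈ (S : Subgroup (Cfsg.Sz F m)) := hS (Subgroup.mem_zpowers t)
    rw [← hg, Sylow.coe_subgroup_smul, Subgroup.mem_pointwise_smul_iff_inv_smul_mem,
      coe_sylowQ] at h1
    have e : (MulAut.conj g)⁻¹ • t = g⁻¹ * t * g := by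
      rw [← map_inv]
      simp
    rwa [e] at h1
  free a b x hx hb hx1 := by
    rw [mem_P hm hF] at hx
    rcases hx with rfl | hx
    · exact absurd rfl hx1
    · exact (hx b).1 hb
  central a t ht ht2 x hx := by
    obtain ⟨g, rfl⟩ := exists_smul_inf hF a
    rw [mem_P_smul hm hF] at ht hx
    have hc : (⟨g⁻¹ * t * g, ht⟩ : Q hF) ∈ Subgroup.center (Q hF) := by
      rw [mem_center_Q_iff hm hF]
      obtain ⟨c, d, hcd⟩ := exists_qu hF (⟨g⁻¹ * t * g, ht⟩ : Q hF)
      have h1 : (⟨g⁻¹ * t * g, ht⟩ : Q hF) ^ 2 = 1 := by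
        apply Subtype.ext
        show (g⁻¹ * t * g) ^ 2 = 1
        rw [pow_two]
        calc g⁻¹ * t * g * (g⁻¹ * t * g) = g⁻¹ * (t * t) * g := by group
          _ = 1 := by rw [ht2]; group
      rw [hcd, qu_sq, ← qu_zero_zero hF, qu_eq_iff] at h1
      have h2 : c = 0 := by
        have := h1.2
        rcases mul_eq_zero.1 this with h3 | h3
        · exact pow_eq_zero_iff (by positivity) |>.1 h3
        · exact h3
      subst h2
      exact ⟨d, hcd⟩
    rw [Subgroup.mem_center_iff] at hc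
    have h3 := congrArg Subtype.val (hc ⟨_, hx⟩)
    have h4 : g⁻¹ * x * g * (g⁻¹ * t * g) = g⁻¹ * t * g * (g⁻¹ * x * g) := h3
    calc t * x = g * (g⁻¹ * t * g * (g⁻¹ * x * g)) * g⁻¹ := by group
      _ = g * (g⁻¹ * x * g * (g⁻¹ * t * g)) * g⁻¹ := by rw [h4]
      _ = x * t := by group
  cent a t ht ht1 x hx := by
    obtain ⟨g, rfl⟩ := exists_smul_inf hF a
    rw [mem_P_smul hm hF] at ht ⊢
    obtain ⟨c, d, hcd⟩ := (mem_Q_iff hF _).1 ht
    have hcd0 : ¬ (c = 0 ∧ d = 0) := by
      rintro ⟨rfl, rfl⟩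
      rw [u_zero_zero] at hcd
      apply ht1
      calc t = g * (g⁻¹ * t * g) * g⁻¹ := by group
        _ = 1 := by rw [hcd]; group
    have hcomm : (g⁻¹ * x * g) * (g⁻¹ * t * g) = (g⁻¹ * t * g) * (g⁻¹ * x * g) := by
      calc (g⁻¹ * x * g) * (g⁻¹ * t * g) = g⁻¹ * (x * t) * g := by group
        _ = g⁻¹ * (t * x) * g := by rw [hx]
        _ = _ := by group
    rw [hcd] at hcomm
    obtain ⟨e, f, hef⟩ := eq_U_of_commute hm hF hcd0 (g⁻¹ * x * g).2 (congrArg Subtype.val hcomm)
    rw [mem_Q_iff]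
    exact ⟨e, f, Subtype.ext hef⟩

/-- The diagonal torus. -/
def T (_hF : Fintype.card F = 2 ^ (2 * m + 1)) : Subgroup (Cfsg.Sz F m) :=
  stabilizer (Cfsg.Sz F m) (inf F m) ⊓ stabilizer (Cfsg.Sz F m) (zer F m)

theorem mem_T (hm : 1 ≤ m) (hF : Fintype.card F = 2 ^ (2 * m + 1)) (x : Cfsg.Sz F m) :
    x ∈ T hF ↔ ∃ k : Fˣ, (x : SL(4, F)) = H m k := by
  constructor
  · rintro ⟨h1, h0⟩
    exact eq_H_of_fix_two hm hF x.2 (congrArg Subtype.val h1) (congrArg Subtype.val h0)
  · rintro ⟨k, hk⟩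
    refine ⟨Subtype.ext ?_, Subtype.ext ?_⟩
    · show (x : SL(4, F)) • Cfsg.suzukiPointInfinity F = Cfsg.suzukiPointInfinity F
      rw [hk]; exact H_smul_infinity k
    · show (x : SL(4, F)) • Cfsg.suzukiPointZero F = Cfsg.suzukiPointZero F
      rw [hk]; exact H_smul_zero hF k

theorem T_cyclic (hm : 1 ≤ m) (hF : Fintype.card F = 2 ^ (2 * m + 1)) :
    IsCyclic (T hF) ∧ Nat.card (T hF) = 2 ^ (2 * m + 1) - 1 := by
  classical
  let φ : Fˣ →* Cfsg.Sz F m :=
    { toFun := fun k => ⟨H m k, H_mem hF k⟩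
      map_one' := Subtype.ext (H_one m)
      map_mul' := fun k l => Subtype.ext (H_mul m k l).symm }
  have hinj : Function.Injective φ := by
    intro k l hkl
    exact (H_eq_H_iff hF k l).1 (congrArg Subtype.val hkl)
  have hr : φ.range = T hF := by
    ext x
    rw [mem_T hm hF]
    constructor
    · rintro ⟨k, rfl⟩
      exact ⟨k, rfl⟩
    · rintro ⟨k, hk⟩
      exact ⟨k, Subtype.ext hk.symm⟩
  have e : Fˣ ≃* T hF := (MonoidHom.ofInjective hinj).trans (MulEquiv.subgroupCongr hr)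
  constructor
  · exact isCyclic_of_surjective e.toMonoidHom e.surjective
  · rw [← Nat.card_congr e.toEquiv, Nat.card_eq_fintype_card, Fintype.card_units, hF]

theorem T_cent (hm : 1 ≤ m) (hF : Fintype.card F = 2 ^ (2 * m + 1)) {u : Cfsg.Sz F m}
    (hu : u ∈ T hF) (hu1 : u ≠ 1) : Subgroup.centralizer {u} = T hF := by
  obtain ⟨k, hk⟩ := (mem_T hm hF u).1 hu
  have hk1 : k ≠ 1 := by
    rintro rfl
    rw [H_one] at hk
    exact hu1 (Subtype.ext hk)
  ext x
  rw [Subgroup.mem_centralizer_singleton_iff, mem_T hm hF]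
  constructor
  · intro h
    have h' : (x : SL(4, F)) * (u : SL(4, F)) = (u : SL(4, F)) * (x : SL(4, F)) :=
      congrArg Subtype.val h
    rw [hk] at h'
    exact eq_H_of_commute hm hF hk1 x.2 h'
  · rintro ⟨l, hl⟩
    apply Subtype.ext
    show (x : SL(4, F)) * (u : SL(4, F)) = (u : SL(4, F)) * (x : SL(4, F))
    rw [hk, hl, H_mul, H_mul, mul_comm]

/-- **Trichotomy.** A nonidentity element of the Suzuki group lies in some `P a`, or in a cyclic
subgroup `U` which is the centraliser of each of its nonidentity elements and has order `q - 1`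
or `q ± 2 ^ (m + 1) + 1`. -/
theorem trichotomy (hm : 1 ≤ m) (hF : Fintype.card F = 2 ^ (2 * m + 1)) {g : Cfsg.Sz F m}
    (hg : g ≠ 1) : (∃ a, g ∈ P hF a) ∨
      ∃ U : Subgroup (Cfsg.Sz F m), g ∈ U ∧ IsCyclic U ∧
        Nat.card U ∈ ({2 ^ (2 * m + 1) - 1, 2 ^ (2 * m + 1) + 2 ^ (m + 1) + 1,
          2 ^ (2 * m + 1) - 2 ^ (m + 1) + 1} : Set ℕ) ∧
        ∀ u ∈ U, u ≠ 1 → Subgroup.centralizer {u} = U := by
  classical
  have hfin := finite_ovoid F m
  by_cases hfree : ∃ a : Cfsg.suzukiOvoid F m, g • a = a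
  · obtain ⟨a, ha⟩ := hfree
    by_cases h2 : ∃ b : Cfsg.suzukiOvoid F m, b ≠ a ∧ g • b = b
    · right
      obtain ⟨b, hba, hb⟩ := h2
      obtain ⟨y, hy1, hy2⟩ := exists_smul_pair hF hba.symm
      have hmem : y⁻¹ * g * y ∈ T hF := by
        constructor
        · show (y⁻¹ * g * y) • inf F m = inf F m
          rw [mul_smul, mul_smul, hy1, ha, ← hy1, inv_smul_smul]
        · show (y⁻¹ * g * y) • zer F m = zer F m
          rw [mul_smul, mul_smul, hy2, hb, ← hy2, inv_smul_smul]
      let φ := (MulAut.conj y).toMonoidHom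
      have hφ : ∀ x : Cfsg.Sz F m, φ x = y * x * y⁻¹ := fun x => by
        show (MulAut.conj y) x = _
        rw [MulAut.conj_apply]
      refine ⟨(T hF).map φ, ?_, ?_, ?_, ?_⟩
      · refine ⟨_, hmem, ?_⟩
        rw [hφ]; group
      · have := (T_cyclic hm hF).1
        exact isCyclic_of_surjective ((T hF).equivMapOfInjective φ (MulAut.conj y).injective).toMonoidHom
          ((T hF).equivMapOfInjective φ (MulAut.conj y).injective).surjective
      · rw [← Nat.card_congr ((T hF).equivMapOfInjective φ (MulAut.conj y).injective).toEquiv,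
          (T_cyclic hm hF).2]
        simp
      · rintro _ ⟨u, hu, rfl⟩ hu1
        have hu1' : u ≠ 1 := by
          rintro rfl
          exact hu1 (map_one φ)
        have hc := T_cent hm hF hu hu1'
        ext x
        rw [Subgroup.mem_centralizer_singleton_iff, hφ]
        constructor
        · intro hx
          refine ⟨y⁻¹ * x * y, ?_, ?_⟩
          · rw [← hc, SetLike.mem_coe, Subgroup.mem_centralizer_singleton_iff]
            calc y⁻¹ * x * y * u = y⁻¹ * (x * (y * u * y⁻¹)) * y := by group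
              _ = y⁻¹ * ((y * u * y⁻¹) * x) * y := by rw [hx]
              _ = u * (y⁻¹ * x * y) := by group
          · rw [hφ]; group
        · rintro ⟨z, hz, rfl⟩
          rw [← hc, SetLike.mem_coe, Subgroup.mem_centralizer_singleton_iff] at hz
          rw [hφ]
          calc y * z * y⁻¹ * (y * u * y⁻¹) = y * (z * u) * y⁻¹ := by group
            _ = y * (u * z) * y⁻¹ := by rw [hz]
            _ = _ := by group
    · left
      refine ⟨a, (mem_P hm hF a g).2 (Or.inr ?_)⟩
      intro b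
      constructor
      · intro hb
        by_contra hba
        exact h2 ⟨b, hba, hb⟩
      · rintro rfl
        exact ha
  · right
    have H := SuzukiHyp.hyp hm hF
    have hgf : g ∈ SuzukiTori.Hyp.free (Cfsg.Sz F m) (Cfsg.suzukiOvoid F m) := by
      rw [SuzukiTori.Hyp.mem_free_iff]
      intro ω hω
      exact hfree ⟨ω, hω⟩
    refine ⟨Subgroup.centralizer {g}, Subgroup.mem_centralizer_singleton_iff.2 rfl,
      SuzukiHyp.isCyclic_centralizer hm hF hgf, ?_, fun u hu hu1 => H.centralizer_eq hgf hu hu1⟩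
    -- the order
    obtain ⟨p, k, hp, hpq, hk⟩ := H.exists_prime_pow hgf
    have hpg : p ∣ Nat.card (Subgroup.centralizer ({g} : Set (Cfsg.Sz F m))) := by
      have hmem : g ^ k ∈ Subgroup.centralizer ({g} : Set (Cfsg.Sz F m)) :=
        Subgroup.mem_centralizer_singleton_iff.2 (by rw [← pow_succ, ← pow_succ'])
      rw [← hk]
      exact Subgroup.orderOf_dvd_natCard _ hmem
    have key : ∀ n ∈ ({2 ^ (2 * m + 1) + 2 ^ (m + 1) + 1, 2 ^ (2 * m + 1) - 2 ^ (m + 1) + 1} : Set ℕ),
        p ∣ n → Nat.card (Subgroup.centralizer ({g} : Set (Cfsg.Sz F m))) = n := by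
      intro n hn hpn
      obtain ⟨g₁, hg₁, hc₁, -⟩ := H.exists_tori rfl n hn
      have h3 := SuzukiTori.Hyp.mem_tset_of_dvd H hg₁ hgf hp (by rw [hc₁]; exact hpn) hpg
      obtain ⟨-, y, hy⟩ := h3
      have hy1 : y⁻¹ * g * y ≠ 1 := by
        intro h4
        apply hg
        calc g = y * (y⁻¹ * g * y) * y⁻¹ := by group
          _ = 1 := by rw [h4]; group
      have h5 := H.centralizer_eq hg₁ hy hy1
      rw [← hc₁, ← h5]
      -- conjugate centralisers
      apply Nat.card_congr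
      refine ⟨fun x => ⟨y⁻¹ * (x : Cfsg.Sz F m) * y, ?_⟩, fun x => ⟨y * (x : Cfsg.Sz F m) * y⁻¹, ?_⟩,
        ?_, ?_⟩
      · have hx := Subgroup.mem_centralizer_singleton_iff.1 x.2
        rw [Subgroup.mem_centralizer_singleton_iff]
        calc y⁻¹ * (x : Cfsg.Sz F m) * y * (y⁻¹ * g * y) = y⁻¹ * ((x : Cfsg.Sz F m) * g) * y := by group
          _ = y⁻¹ * (g * (x : Cfsg.Sz F m)) * y := by rw [hx]
          _ = _ := by group
      · have hx := Subgroup.mem_centralizer_singleton_iff.1 x.2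
        rw [Subgroup.mem_centralizer_singleton_iff]
        calc y * (x : Cfsg.Sz F m) * y⁻¹ * g = y * ((x : Cfsg.Sz F m) * (y⁻¹ * g * y)) * y⁻¹ := by group
          _ = y * ((y⁻¹ * g * y) * (x : Cfsg.Sz F m)) * y⁻¹ := by rw [hx]
          _ = _ := by group
      · intro x
        apply Subtype.ext
        show y * (y⁻¹ * (x : Cfsg.Sz F m) * y) * y⁻¹ = x
        group
      · intro x
        apply Subtype.ext
        show y⁻¹ * (y * (x : Cfsg.Sz F m) * y⁻¹) * y = x
        group
    have hfac : (2 ^ (2 * m + 1) + 2 ^ (m + 1) + 1) * (2 ^ (2 * m + 1) - 2 ^ (m + 1) + 1) =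
        (2 ^ (2 * m + 1)) ^ 2 + 1 := by
      have hle : 2 ^ (m + 1) ≤ 2 ^ (2 * m + 1) := Nat.pow_le_pow_right (by norm_num) (by omega)
      obtain ⟨d, hd⟩ := Nat.exists_eq_add_of_le hle
      have hsq : 2 ^ (m + 1) * 2 ^ (m + 1) = 2 * 2 ^ (2 * m + 1) := by
        rw [← pow_add, ← pow_succ']
        congr 1
        ring
      have e1 : 2 ^ (2 * m + 1) - 2 ^ (m + 1) = d := by omega
      rw [e1]
      rw [hd] at hsq ⊢
      nlinarith [hsq]
    rw [← hfac] at hpq
    rcases (Nat.Prime.dvd_mul hp).1 hpq with h6 | h6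
    · right; left
      exact key _ (by simp) h6
    · right; right
      exact key _ (by simp) h6

end Cfsg.Agent.H101.SzGeo
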