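import Cfsg.Agent.H101.RealOdd
import Cfsg.Agent.H101.SzGeo
import Cfsg.Agent.OddCyclic.ClaimC.SzIso

/-!
# `RealOdd` for the Suzuki groups
-/

set_option autoImplicit false

namespace Cfsg.Agent.H101.RO

open Subgroup Cfsg.Agent.H101.SzGeo

theorem sz_odd_real {F : Type*} [Field F] [Fintype F] {m : ℕ} (hm : 1 ≤ m) (hF : Fintype.card F = 2 ^ (2 * m + 1)) :
    RealOdd (Cfsg.Sz F m) := by
  classical
  haveI : Finite (Cfsg.Sz F m) := inferInstance
  obtain ⟨hc, hT⟩ := T_cyclic hm hF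
  have hq : 2 ^ 3 ≤ 2 ^ (2 * m + 1) := Nat.pow_le_pow_right (by norm_num) (by omega)
  obtain ⟨r, hr, hrd⟩ := Nat.exists_prime_and_dvd (n := 2 ^ (2 * m + 1) - 1) (by omega)
  haveI : Fact r.Prime := ⟨hr⟩
  have hr2 : r ≠ 2 := by
    rintro rfl
    have h1 : 2 ∣ 2 ^ (2 * m + 1) := dvd_pow_self 2 (by omega)
    omega
  obtain ⟨x, hx⟩ := exists_prime_orderOf_dvd_card' r (show r ∣ Nat.card (T hF) by rw [hT]; exact hrd)
  have hx' : orderOf (x : Cfsg.Sz F m) = r := by rw [Subgroup.orderOf_coe, hx]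
  have hx1 : (x : Cfsg.Sz F m) ≠ 1 := by
    intro h
    rw [h, orderOf_one] at hx'
    exact hr.one_lt.ne hx'
  have hmem : ∀ g : Cfsg.Sz F m, g ∈ T hF ↔ g • inf F m = inf F m ∧ g • zer F m = zer F m := fun g => by
    rw [T, Subgroup.mem_inf, MulAction.mem_stabilizer_iff, MulAction.mem_stabilizer_iff]
  have key : ∀ g : Cfsg.Sz F m, g • inf F m = zer F m → g • zer F m = inf F m →
      ∀ t ∈ zpowers (x : Cfsg.Sz F m), g * t * g⁻¹ ∈ zpowers (x : Cfsg.Sz F m) := by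
    intro g h1 h2
    have h1' : g⁻¹ • zer F m = inf F m := by rw [← h1, inv_smul_smul]
    have h2' : g⁻¹ • inf F m = zer F m := by rw [← h2, inv_smul_smul]
    have hcT : ∀ t ∈ T hF, g * t * g⁻¹ ∈ T hF := by
      intro t ht
      rw [hmem] at ht ⊢
      rw [mul_smul, mul_smul, mul_smul, mul_smul, h1', h2', ht.1, ht.2]
      exact ⟨h2, h1⟩
    let σ : T hF →* T hF :=
      { toFun := fun t => ⟨g * t * g⁻¹, hcT t t.2⟩
        map_one' := Subtype.ext (by simp)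
        map_mul' := fun a b => Subtype.ext (by simp [mul_assoc]) }
    obtain ⟨k, hk⟩ := MonoidHom.map_cyclic σ
    have hgx : g * (x : Cfsg.Sz F m) * g⁻¹ = (x : Cfsg.Sz F m) ^ k := by
      have := congrArg Subtype.val (hk x)
      rwa [Subgroup.coe_zpow] at this
    rintro t ⟨j, rfl⟩
    refine ⟨k * j, ?_⟩
    show (x : Cfsg.Sz F m) ^ (k * j) = g * (x : Cfsg.Sz F m) ^ j * g⁻¹
    rw [zpow_mul, ← hgx, conj_zpow]
  obtain ⟨w, hw1, hw2⟩ := exists_smul_pair hF (a := zer F m) (b := inf F m) inf_ne_zer.symm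
  have hw1' : w⁻¹ • zer F m = inf F m := by rw [← hw1, inv_smul_smul]
  have hw2' : w⁻¹ • inf F m = zer F m := by rw [← hw2, inv_smul_smul]
  have hwN : w ∈ normalizer ((zpowers (x : Cfsg.Sz F m) : Subgroup (Cfsg.Sz F m)) : Set (Cfsg.Sz F m)) := by
    rw [mem_normalizer_iff]
    intro t
    refine ⟨fun ht => key w hw1 hw2 t ht, fun ht => ?_⟩
    have := key w⁻¹ hw2' hw1' _ ht
    have e : w⁻¹ * (w * t * w⁻¹) * w⁻¹⁻¹ = t := by group
    rwa [e] at this
  have hwo : 2 ∣ orderOf w := by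
    by_contra hodd
    have h1 : w ^ 2 ∈ T hF := by
      rw [hmem, pow_two, mul_smul, mul_smul, hw1, hw2, hw1]
      exact ⟨rfl, rfl⟩
    have h3 : w ∈ zpowers (w ^ 2) := by
      have hcop : Nat.Coprime (orderOf w) 2 := by
        rw [Nat.coprime_comm, Nat.prime_two.coprime_iff_not_dvd]; exact hodd
      obtain ⟨k, hk⟩ := exists_pow_eq_self_of_coprime (n := 2) (x := w) hcop.symm
      exact ⟨(k : ℤ), by show (w ^ 2) ^ (k : ℤ) = w; rw [zpow_natCast]; exact hk⟩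
    have h4 : w ∈ T hF := (zpowers_le.2 h1) h3
    have h5 := ((hmem w).1 h4).1
    rw [hw1] at h5
    exact inf_ne_zer h5.symm
  refine RealOdd.of_norm_even hr hr2 le_rfl (x := (x : Cfsg.Sz F m)) (by rw [hx', pow_one]) ?_ ?_
  · refine hwo.trans ?_
    have := orderOf_dvd_natCard (⟨w, hwN⟩ : ↥(normalizer ((zpowers (x : Cfsg.Sz F m) : Subgroup (Cfsg.Sz F m)) :
      Set (Cfsg.Sz F m))))
    rwa [Subgroup.orderOf_mk] at this
  · rw [T_cent hm hF x.2 hx1, hT, ← Nat.not_even_iff_odd, even_iff_two_dvd]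
    have h1 : 2 ∣ 2 ^ (2 * m + 1) := dvd_pow_self 2 (by omega)
    omega

/-- **Suzuki groups** -/
theorem sz_row {G : Type*} [Group G] (h : Cfsg.Lie.IsoSuzuki G) : RealOdd G := by
  obtain ⟨F, _, _, m, hm, hF, ⟨e⟩⟩ := h
  obtain ⟨e'⟩ := Cfsg.Agent.OddCyclic.ClaimC.SzIso.iso hm hF
  exact RealOdd.congr (e'.trans e.symm) (sz_odd_real hm hF)

end Cfsg.Agent.H101.RO
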