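import Cfsg.Agent.H101.ROAlt
import Cfsg.Agent.H101.ROPslRow
import Cfsg.Agent.H101.ROSp
import Cfsg.Agent.H101.ROSURow
import Cfsg.Agent.H101.ROOrthFin
import Cfsg.Agent.H101.ROOddDim
import Cfsg.Agent.H101.ROSz
import Cfsg.Agent.H101.RORee
import Cfsg.Agent.H101.ROTwF4
import Cfsg.Agent.H129.RealTw
import Cfsg.Agent.H129.RealE7

/-!
# `RealOdd` for the groups of Lie type
-/

set_option autoImplicit false

namespace Cfsg.Agent.H101.RO

open Cfsg Cfsg.Lie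

variable {G : Type*} [Group G]

theorem exc_row (h : Lie.IsoChevG2 G ∨ Lie.IsoF4 G ∨ Lie.IsoChevE6 G ∨ Lie.IsoE7 G ∨ Lie.IsoE8 G ∨ Lie.Iso2E6 G ∨
    Lie.Iso3D4 G ∨ Lie.IsoSuzuki G ∨ Lie.IsoRee G ∨ Lie.Iso2F4 G) : RealOdd G := by
  rcases h with h | h | h | h | h | h | h | h | h | h
  · obtain ⟨F, _, _, hF, ⟨e⟩⟩ := h
    exact RealOdd.congr e.symm (H129.RealT.realOdd_G2 (by omega))
  · obtain ⟨F, _, _, ⟨e⟩⟩ := h
    exact RealOdd.congr e.symm H129.RealT.realOdd_F4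
  · obtain ⟨F, _, _, ⟨e⟩⟩ := h
    exact RealOdd.congr e.symm H129.RealT.realOdd_E6
  · obtain ⟨F, _, _, ⟨e⟩⟩ := h
    exact RealOdd.congr e.symm H129.RealT.realOdd_E7
  · obtain ⟨F, _, _, ⟨e⟩⟩ := h
    exact RealOdd.congr e.symm H129.RealT.realOdd_E8
  · obtain ⟨K, _, _, q, hq, hK, ⟨e⟩⟩ := h
    exact RealOdd.congr e.symm (H129.RealTw.realOdd_E6 hq hK)
  · obtain ⟨K, _, _, q, hq, hK, ⟨e⟩⟩ := h
    exact RealOdd.congr e.symm (H129.RealTw.realOdd_D4 hq hK)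
  · exact sz_row h
  · exact ree_row h
  · exact twF4_row h

/-- the rows of Lie type -/
theorem lie_row (h : IsPSL G ∨ IsPSp G ∨ IsPSU G ∨ IsPOmegaOdd G ∨ IsPOmegaPlus G ∨ IsPOmegaMinus G ∨
    (Lie.IsoChevG2 G ∨ Lie.IsoF4 G ∨ Lie.IsoChevE6 G ∨ Lie.IsoE7 G ∨ Lie.IsoE8 G ∨ Lie.Iso2E6 G ∨
      Lie.Iso3D4 G ∨ Lie.IsoSuzuki G ∨ Lie.IsoRee G ∨ Lie.Iso2F4 G)) : RealOdd G := by
  rcases h with h | h | h | h | h | h | h
  · exact psl_row h
  · exact psp_row h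
  · exact psu_row h
  · exact pomegaOdd_row h
  · exact pomegaPlus_row h
  · exact pomegaMinus_row h
  · exact exc_row h

/-- the known simple groups -/
theorem known_cases (hna : ¬ IsMulCommutative G) (h : IsKnownSimple' G) :
    IsAlternating G ∨ RealOdd G ∨ Lie.IsoTits G ∨ IsSporadicGroup G := by
  rcases h with h | h | h | h | h | h | h | h | h | h
  · exfalso
    apply hna
    have h1 : Fact (Nat.card G).Prime := ⟨h⟩
    have h2 : IsCyclic G := isCyclic_of_prime_card (p := Nat.card G) rfl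
    exact IsCyclic.isMulCommutative
  · exact Or.inl h
  · exact Or.inr (Or.inl (psl_row h))
  · exact Or.inr (Or.inl (psp_row h))
  · exact Or.inr (Or.inl (psu_row h))
  · exact Or.inr (Or.inl (pomegaOdd_row h))
  · exact Or.inr (Or.inl (pomegaPlus_row h))
  · exact Or.inr (Or.inl (pomegaMinus_row h))
  · rcases h with h | h | h | h | h | h | h | h | h | h | h
    · exact Or.inr (Or.inl (exc_row (Or.inl h)))
    · exact Or.inr (Or.inl (exc_row (Or.inr (Or.inl h))))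
    · exact Or.inr (Or.inl (exc_row (Or.inr (Or.inr (Or.inl h)))))
    · exact Or.inr (Or.inl (exc_row (Or.inr (Or.inr (Or.inr (Or.inl h))))))
    · exact Or.inr (Or.inl (exc_row (Or.inr (Or.inr (Or.inr (Or.inr (Or.inl h)))))))
    · exact Or.inr (Or.inl (exc_row (Or.inr (Or.inr (Or.inr (Or.inr (Or.inr (Or.inl h))))))))
    · exact Or.inr (Or.inl (exc_row (Or.inr (Or.inr (Or.inr (Or.inr (Or.inr (Or.inr (Or.inl h)))))))))
    · exact Or.inr (Or.inl (sz_row h))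
    · exact Or.inr (Or.inl (ree_row h))
    · exact Or.inr (Or.inl (twF4_row h))
    · exact Or.inr (Or.inr (Or.inl h))
  · exact Or.inr (Or.inr (Or.inr h))

end Cfsg.Agent.H101.RO
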