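import Mathlib
import Cfsg.Agent.H101.NilpArith
import Cfsg.Agent.OddOrderLocal.CNBasic

/-!
# Orders of nilpotent permutation groups

* `card_dvd_f`: a transitive nilpotent group of permutations of degree `m` has order dividing
  `f m = ∏ p ^ v_p((p ^ v_p(m))!)`.
* `index_ker_le_T`: if a nilpotent group acts on `n` points without orbits of length `3`, its
  image in the symmetric group has order at most `T n = 2 ^ v₂(n!)`.
* `index_ker_le_G`: in general the image has order at most `G n`.
* `card_le_G`, `card_le_T` the same for subgroups of `Perm Ω`.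
-/

set_option autoImplicit false

namespace Cfsg.Agent.H101.NilpPerm

open Nat MulAction Cfsg.Agent.H101.NilpArith

universe u v

/-- The Sylow subgroups of a transitive nilpotent permutation group. -/
theorem sylow_dvd {N : Type u} {Ω : Type v} [Group N] [Finite N] [hN : Group.IsNilpotent N]
    [MulAction N Ω] [FaithfulSMul N Ω] [IsPretransitive N Ω] [Finite Ω] [Nonempty Ω]
    {p : ℕ} [hp : Fact p.Prime] (P : Sylow p N) :
    Nat.card P ∣ (p ^ (Nat.card Ω).factorization p)! := by
  obtain ⟨a⟩ := ‹Nonempty Ω›
  have hPn : (P : Subgroup N).Normal := inferInstance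
  have hblock : IsBlock N (orbit (P : Subgroup N) a) := IsBlock.orbit_of_normal a
  have hdvd : (orbit (P : Subgroup N) a).ncard ∣ Nat.card Ω :=
    hblock.ncard_dvd_card ⟨a, mem_orbit_self a⟩
  obtain ⟨j, hj⟩ := P.isPGroup'.card_orbit a
  have hcard : (orbit (P : Subgroup N) a).ncard = p ^ j := by
    rw [← Nat.card_coe_set_eq]; exact hj
  have hj' : j ≤ (Nat.card Ω).factorization p := by
    rw [hcard] at hdvd
    exact (hp.out.pow_dvd_iff_le_factorization (Nat.card_pos).ne').1 hdvd
  have hinj : Function.Injective (MulAction.toPermHom (P : Subgroup N)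
      (orbit (P : Subgroup N) a)) := by
    rw [injective_iff_map_eq_one]
    intro k hk
    have hk' : ∀ b ∈ orbit (P : Subgroup N) a, (k : N) • b = b := by
      intro b hb
      have := congrArg (fun σ => ((σ ⟨b, hb⟩ : orbit (P : Subgroup N) a) : Ω)) hk
      simp at this
      exact this
    have hall : ∀ b : Ω, (k : N) • b = b := by
      intro b
      obtain ⟨n, rfl⟩ := exists_smul_eq N a b
      obtain ⟨x, y, hx, hy, hxy, ⟨e, hxe⟩, hyp⟩ :=
        OddOrderLocal.CNBasic.exists_mul_parts hp.out n
      have hyx : n = y * x := by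
        rw [← hxy]
        obtain ⟨s, rfl⟩ := Subgroup.mem_zpowers_iff.1 hx
        obtain ⟨t, rfl⟩ := Subgroup.mem_zpowers_iff.1 hy
        rw [← zpow_add, ← zpow_add, add_comm]
      have hxP : x ∈ (P : Subgroup N) := by
        have hpg : IsPGroup p (Subgroup.zpowers x) := by
          have := (IsPGroup.iff_card (p := p) (G := Subgroup.zpowers x)).2
          apply this
          obtain ⟨i, _, hi⟩ := (Nat.dvd_prime_pow hp.out).1 (orderOf_dvd_of_pow_eq_one hxe)
          exact ⟨i, by rw [Nat.card_zpowers, hi]⟩
        obtain ⟨Q, hQ⟩ := hpg.exists_le_sylow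
        have hu := Sylow.unique_of_normal P hPn
        rw [(hu.uniq P).trans (hu.uniq Q).symm]
        exact hQ (Subgroup.mem_zpowers x)
      have hky : Commute (k : N) y := by
        apply OddOrderLocal.CNBasic.commute_of_coprime_orderOf
        obtain ⟨i, hi⟩ := (IsPGroup.iff_orderOf.1 P.isPGroup') k
        rw [Subgroup.orderOf_coe, hi]
        exact (Nat.Coprime.pow_left i hyp.symm)
      rw [hyx, ← mul_smul, ← mul_assoc, hky.eq, mul_assoc, mul_smul y, mul_smul (k : N),
        mul_smul y, hk' (x • a) ⟨⟨x, hxP⟩, rfl⟩]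
    have : (k : N) = 1 := by
      apply FaithfulSMul.eq_of_smul_eq_smul (α := Ω)
      intro b
      rw [hall, one_smul]
    exact Subtype.ext this
  have h1 : Nat.card P ∣ Nat.card (Equiv.Perm (orbit (P : Subgroup N) a)) :=
    Subgroup.card_dvd_of_injective _ hinj
  have h2 : Nat.card (orbit (P : Subgroup N) a) = p ^ j := by
    rw [Nat.card_coe_set_eq, hcard]
  rw [Nat.card_perm, h2] at h1
  exact h1.trans (Nat.factorial_dvd_factorial (Nat.pow_le_pow_right hp.out.pos hj'))

/-- **Transitive nilpotent groups.** -/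
theorem card_dvd_f {N : Type u} {Ω : Type v} [Group N] [Finite N] [hN : Group.IsNilpotent N]
    [MulAction N Ω] [FaithfulSMul N Ω] [IsPretransitive N Ω] [Finite Ω] [Nonempty Ω] :
    Nat.card N ∣ f (Nat.card Ω) := by
  have hΩ : Nat.card Ω ≠ 0 := Nat.card_pos.ne'
  have hf0 : f (Nat.card Ω) ≠ 0 := by
    unfold f
    rw [Finsupp.prod]
    exact Finset.prod_ne_zero_iff.2 fun p hp =>
      pow_ne_zero _ (Nat.prime_of_mem_primeFactors (by simpa using hp)).ne_zero
  rw [← Nat.factorization_le_iff_dvd Nat.card_pos.ne' hf0]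
  intro p
  by_cases hp : p.Prime
  swap
  · rw [Nat.factorization_eq_zero_of_not_prime _ hp]; exact Nat.zero_le _
  have := Fact.mk hp
  obtain ⟨P⟩ : Nonempty (Sylow p N) := inferInstance
  have h := sylow_dvd (Ω := Ω) P
  rw [P.card_eq_multiplicity, hp.pow_dvd_iff_le_factorization (Nat.factorial_ne_zero _)] at h
  refine h.trans ?_
  by_cases hpm : p ∣ Nat.card Ω
  · rw [← hp.pow_dvd_iff_le_factorization hf0]
    unfold f
    rw [Finsupp.prod]
    apply Finset.dvd_prod_of_mem (fun q => q ^ ((q ^ (Nat.card Ω).factorization q)!).factorization q)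
    rw [Nat.support_factorization]
    exact Nat.mem_primeFactors.2 ⟨hp, hpm, hΩ⟩
  · rw [Nat.factorization_eq_zero_of_not_dvd hpm]
    simp

/-- The image of a nilpotent group on a nonempty transitive set. -/
theorem index_ker_dvd_f (N : Type u) (Ω : Type v) [Group N] [hN : Group.IsNilpotent N]
    [MulAction N Ω] [IsPretransitive N Ω] [Finite Ω] [Nonempty Ω] :
    (MulAction.toPermHom N Ω).ker.index ∣ f (Nat.card Ω) := by
  rw [Subgroup.index_ker]
  have hnil : Group.IsNilpotent (MulAction.toPermHom N Ω).range :=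
    Group.nilpotent_of_surjective (MulAction.toPermHom N Ω).rangeRestrict
      (MulAction.toPermHom N Ω).rangeRestrict_surjective
  have htr : IsPretransitive (MulAction.toPermHom N Ω).range Ω := by
    constructor
    intro a b
    obtain ⟨g, rfl⟩ := exists_smul_eq N a b
    exact ⟨⟨MulAction.toPermHom N Ω g, ⟨g, rfl⟩⟩, rfl⟩
  exact card_dvd_f (N := (MulAction.toPermHom N Ω).range) (Ω := Ω)

theorem index_ker_pos (N : Type u) (Ω : Type v) [Group N] [MulAction N Ω] [Finite Ω] :
    0 < (MulAction.toPermHom N Ω).ker.index := by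
  rw [Subgroup.index_ker]
  exact Nat.card_pos

/-- The kernel on `Ω` is the intersection of the kernels on an invariant subset and on its
complement. -/
theorem ker_eq_inf {N : Type u} {Ω : Type v} [Group N] [MulAction N Ω] (s : SubMulAction N Ω) :
    (MulAction.toPermHom N Ω).ker =
      (MulAction.toPermHom N s).ker ⊓ (MulAction.toPermHom N (sᶜ : SubMulAction N Ω)).ker := by
  ext g
  simp only [Subgroup.mem_inf, MonoidHom.mem_ker]
  constructor
  · intro h
    constructor
    · ext b
      have := congrArg (fun σ => σ (b : Ω)) h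
      simpa using this
    · ext b
      have := congrArg (fun σ => σ (b : Ω)) h
      simpa using this
  · rintro ⟨h1, h2⟩
    ext b
    by_cases hb : b ∈ s
    · have := congrArg (fun σ => ((σ ⟨b, hb⟩ : s) : Ω)) h1
      simpa using this
    · have := congrArg (fun σ => ((σ ⟨b, hb⟩ : (sᶜ : SubMulAction N Ω)) : Ω)) h2
      simpa using this

theorem index_ker_le_mul {N : Type u} {Ω : Type v} [Group N] [MulAction N Ω]
    (s : SubMulAction N Ω) :
    (MulAction.toPermHom N Ω).ker.index ≤
      (MulAction.toPermHom N s).ker.index *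
        (MulAction.toPermHom N (sᶜ : SubMulAction N Ω)).ker.index := by
  rw [ker_eq_inf s]
  exact Subgroup.index_inf_le

/-- The orbit of `a` as an invariant subset. -/
def orb (N : Type u) {Ω : Type v} [Group N] [MulAction N Ω] (a : Ω) : SubMulAction N Ω where
  carrier := orbit N a
  smul_mem' := fun g _ hx => (mem_orbit_of_mem_orbit g hx)

theorem mem_orb {N : Type u} {Ω : Type v} [Group N] [MulAction N Ω] {a b : Ω} :
    b ∈ orb N a ↔ b ∈ orbit N a := Iff.rfl

instance orb_pretransitive (N : Type u) {Ω : Type v} [Group N] [MulAction N Ω] (a : Ω) :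
    IsPretransitive N (orb N a) := by
  constructor
  rintro ⟨x, hx⟩ ⟨y, hy⟩
  obtain ⟨g, rfl⟩ := hx
  obtain ⟨h, rfl⟩ := hy
  refine ⟨h * g⁻¹, ?_⟩
  apply Subtype.ext
  simp [mul_smul]

instance orb_nonempty (N : Type u) {Ω : Type v} [Group N] [MulAction N Ω] (a : Ω) :
    Nonempty (orb N a) := ⟨⟨a, mem_orbit_self a⟩⟩

theorem card_orb (N : Type u) {Ω : Type v} [Group N] [MulAction N Ω] (a : Ω) :
    Nat.card (orb N a) = Nat.card (orbit N a) := rfl

theorem card_add_card_compl {N : Type u} {Ω : Type v} [Group N] [MulAction N Ω] [Finite Ω]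
    (s : SubMulAction N Ω) :
    Nat.card s + Nat.card (sᶜ : SubMulAction N Ω) = Nat.card Ω := by
  have h := Set.ncard_add_ncard_compl (s : Set Ω)
  rw [← Nat.card_coe_set_eq, ← Nat.card_coe_set_eq] at h
  exact h

theorem card_orbit_sub {N : Type u} {Ω : Type v} [Group N] [MulAction N Ω]
    (s : SubMulAction N Ω) (a : s) :
    Nat.card (orbit N a) = Nat.card (orbit N (a : Ω)) := by
  rw [← SubMulAction.val_image_orbit a, Nat.card_coe_set_eq, Nat.card_coe_set_eq,
    Set.ncard_image_of_injective _ Subtype.val_injective]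

/-- **No orbit of length `3`.** -/
theorem index_ker_le_T (N : Type u) [Group N] [hN : Group.IsNilpotent N] :
    ∀ (n : ℕ) (Ω : Type v) [Finite Ω] [MulAction N Ω], Nat.card Ω = n →
      (∀ a : Ω, Nat.card (orbit N a) ≠ 3) → (MulAction.toPermHom N Ω).ker.index ≤ T n := by
  intro n
  induction n using Nat.strong_induction_on with
  | _ n ih =>
    intro Ω _ _ hcard h3
    rcases isEmpty_or_nonempty Ω with hE | ⟨⟨a⟩⟩
    · have : (MulAction.toPermHom N Ω).ker = ⊤ := by
        rw [eq_top_iff]
        intro g _
        rw [MonoidHom.mem_ker]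
        exact Subsingleton.elim _ _
      rw [this, Subgroup.index_top]
      exact T_pos n
    · have h1 : (MulAction.toPermHom N (orb N a)).ker.index ≤ T (Nat.card (orb N a)) := by
        refine (Nat.le_of_dvd ?_ (index_ker_dvd_f N (orb N a))).trans
          (f_le Nat.card_pos (by rw [card_orb]; exact h3 a))
        rcases Nat.eq_zero_or_pos (f (Nat.card (orb N a))) with h0 | h0
        · exfalso
          unfold f at h0
          rw [Finsupp.prod, Finset.prod_eq_zero_iff] at h0
          obtain ⟨p, hp, h⟩ := h0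
          exact pow_ne_zero _
            (Nat.prime_of_mem_primeFactors (by simpa using hp)).ne_zero h
        · exact h0
      have hadd := card_add_card_compl (orb N a)
      have hpos : 0 < Nat.card (orb N a) := Nat.card_pos
      have h2 := ih (Nat.card ((orb N a)ᶜ : SubMulAction N Ω)) (by omega)
        ((orb N a)ᶜ : SubMulAction N Ω) rfl (fun b => by rw [card_orbit_sub]; exact h3 _)
      calc _ ≤ _ := index_ker_le_mul (orb N a)
        _ ≤ T (Nat.card (orb N a)) * T (Nat.card ((orb N a)ᶜ : SubMulAction N Ω)) :=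
          Nat.mul_le_mul h1 h2
        _ ≤ T (Nat.card (orb N a) + Nat.card ((orb N a)ᶜ : SubMulAction N Ω)) := T_add _ _
        _ = T n := by rw [hadd, hcard]

/-- The image on an orbit of length `3` has order dividing `3`. -/
theorem index_ker_orb_three {N : Type u} [Group N] [hN : Group.IsNilpotent N] {Ω : Type v}
    [Finite Ω] [MulAction N Ω] {a : Ω} (h : Nat.card (orbit N a) = 3) :
    (MulAction.toPermHom N (orb N a)).ker.index ∣ 3 := by
  have h1 := index_ker_dvd_f N (orb N a)
  rwa [card_orb, h, f_three] at h1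

/-- **The general bound.** -/
theorem index_ker_le_G (N : Type u) [Group N] [hN : Group.IsNilpotent N] :
    ∀ (n : ℕ) (Ω : Type v) [Finite Ω] [MulAction N Ω], Nat.card Ω = n →
      (MulAction.toPermHom N Ω).ker.index ≤ G n := by
  intro n
  induction n using Nat.strong_induction_on with
  | _ n ih =>
    intro Ω _ _ hcard
    by_cases h3 : ∀ a : Ω, Nat.card (orbit N a) ≠ 3
    · exact (index_ker_le_T N n Ω hcard h3).trans (T_le_G n)
    · push Not at h3
      obtain ⟨a, ha⟩ := h3
      have h1 : (MulAction.toPermHom N (orb N a)).ker.index ≤ 3 :=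
        Nat.le_of_dvd (by norm_num) (index_ker_orb_three ha)
      have hadd := card_add_card_compl (orb N a)
      rw [card_orb, ha] at hadd
      have h2 := ih (Nat.card ((orb N a)ᶜ : SubMulAction N Ω)) (by omega)
        ((orb N a)ᶜ : SubMulAction N Ω) rfl
      have he : Nat.card ((orb N a)ᶜ : SubMulAction N Ω) = n - 3 := by omega
      rw [he] at h2
      calc _ ≤ _ := index_ker_le_mul (orb N a)
        _ ≤ 3 * G (n - 3) := Nat.mul_le_mul h1 h2
        _ ≤ G n := three_G_le (by omega)

theorem index_ker_subgroup {Ω : Type v} (N : Subgroup (Equiv.Perm Ω)) :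
    (MulAction.toPermHom N Ω).ker.index = Nat.card N := by
  have : (MulAction.toPermHom N Ω).ker = ⊥ := by
    rw [eq_bot_iff]
    intro g hg
    rw [MonoidHom.mem_ker] at hg
    rw [Subgroup.mem_bot]
    apply Subtype.ext
    ext b
    have := congrArg (fun σ => σ b) hg
    simp at this
    exact this
  rw [this, Subgroup.index_bot]

/-- **Nilpotent subgroups of symmetric groups, general bound.** -/
theorem card_le_G {Ω : Type v} [Finite Ω] (N : Subgroup (Equiv.Perm Ω))
    (hN : Group.IsNilpotent N) : Nat.card N ≤ G (Nat.card Ω) := by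
  rw [← index_ker_subgroup N]
  exact index_ker_le_G N _ Ω rfl

/-- **Nilpotent subgroups of symmetric groups without orbits of length `3`.** -/
theorem card_le_T {Ω : Type v} [Finite Ω] (N : Subgroup (Equiv.Perm Ω))
    (hN : Group.IsNilpotent N) (h3 : ∀ a : Ω, Nat.card (orbit N a) ≠ 3) :
    Nat.card N ≤ T (Nat.card Ω) := by
  rw [← index_ker_subgroup N]
  exact index_ker_le_T N _ Ω rfl h3

theorem card_sylow_two {Ω : Type v} [Finite Ω] (P : Sylow 2 (Equiv.Perm Ω)) :
    Nat.card P = T (Nat.card Ω) := by
  rw [P.card_eq_multiplicity, Nat.card_perm, T]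

end Cfsg.Agent.H101.NilpPerm
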