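import Cfsg.Agent.H101.RealOdd
import Cfsg.Agent.H463.PairAlt

/-!
# Alternating groups

* `alt_row` : `RealOdd` for `5 ≤ n ≤ 41`, `n ≠ 24`; `alt_pair` : `NormPair` for all `n ≥ 5`.
-/

set_option autoImplicit false

namespace Cfsg.Agent.H101.RO

open Equiv Equiv.Perm Subgroup

theorem alt_real {n p k : ℕ} (m : Multiset ℕ) (hp : p.Prime) (hp2 : p ≠ 2) (hk : 1 ≤ k) (hsum : m.sum ≤ n)
    (hodd : ∀ a ∈ m, Odd a) (h2 : ∀ a ∈ m, 2 ≤ a) (hlcm : m.lcm = p ^ k)
    (hnot : m.sum + 1 < n ∨ ¬ ∀ i, m.count i ≤ 1)
    (hc : ((n - m.sum).factorial * m.prod * ∏ i ∈ m.toFinset, (m.count i).factorial) % 4 = 2) :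
    RealOdd (alternatingGroup (Fin n)) := by
  classical
  obtain ⟨σ, hσ⟩ := (exists_with_cycleType_iff (Fin n) (m := m)).2 ⟨by simpa using hsum, h2⟩
  have hsign : σ ∈ alternatingGroup (Fin n) := by
    rw [mem_alternatingGroup, sign_of_cycleType, hσ]
    apply Even.neg_one_pow
    have : ∀ s : Multiset ℕ, (∀ a ∈ s, Odd a) → Even (s.sum + s.card) := by
      intro s
      induction s using Multiset.induction_on with
      | empty => intro _; simp
      | cons a s ih =>
        intro h
        rw [Multiset.sum_cons, Multiset.card_cons]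
        have h1 := h a (Multiset.mem_cons_self a s)
        have h3 := ih fun b hb => h b (Multiset.mem_cons_of_mem hb)
        have e : a + s.sum + (s.card + 1) = (a + 1) + (s.sum + s.card) := by ring
        rw [e]
        exact (h1.add_odd odd_one).add h3
    exact this m hodd
  -- an odd permutation centralising `σ`
  obtain ⟨τ, hτ, hτs⟩ : ∃ τ : Perm (Fin n), τ * σ = σ * τ ∧ sign τ = -1 := by
    by_contra hcon
    push Not at hcon
    have hle : centralizer ({σ} : Set (Perm (Fin n))) ≤ alternatingGroup (Fin n) := by
      intro τ hτ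
      rw [mem_alternatingGroup]
      rcases Int.units_eq_one_or (sign τ) with h | h
      · exact h
      · exact absurd h (hcon τ (mem_centralizer_singleton_iff.1 hτ))
    rcases hnot with h | h
    · have := card_le_of_centralizer_le_alternating hle
      rw [hσ, Fintype.card_fin] at this
      omega
    · apply h
      rw [← hσ]
      exact count_le_one_of_centralizer_le_alternating hle
  -- the order of the centralizer
  set C := centralizer ({σ} : Set (Perm (Fin n))) with hC
  have hCc : Nat.card C % 4 = 2 := by
    rw [nat_card_centralizer, hσ, Fintype.card_fin]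
    exact hc
  let f : C →* ℤˣ := sign.comp C.subtype
  have hrange : f.range = ⊤ := by
    rw [eq_top_iff]
    intro u _
    rcases Int.units_eq_one_or u with rfl | rfl
    · exact one_mem _
    · exact ⟨⟨τ, mem_centralizer_singleton_iff.2 hτ⟩, hτs⟩
  have hker : Nat.card f.ker * 2 = Nat.card C := by
    have h3 : Nat.card f.range = 2 := by
      rw [hrange, Subgroup.card_top, Nat.card_eq_fintype_card]
      rfl
    rw [← f.ker.card_mul_index, Subgroup.index_ker, h3]
  have hcard : Nat.card (centralizer ({⟨σ, hsign⟩} : Set (alternatingGroup (Fin n)))) = Nat.card f.ker := by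
    refine Nat.card_congr ⟨fun g => ⟨⟨g.1.1, ?_⟩, ?_⟩, fun g => ⟨⟨g.1.1, ?_⟩, ?_⟩, fun _ => rfl, fun _ => rfl⟩
    · have h := mem_centralizer_singleton_iff.1 g.2
      rw [hC, mem_centralizer_singleton_iff]
      exact congrArg Subtype.val h
    · exact g.1.2
    · exact g.2
    · have h := mem_centralizer_singleton_iff.1 g.1.2
      rw [mem_centralizer_singleton_iff]
      exact Subtype.ext h
  refine ⟨⟨σ, hsign⟩, p, k, hp, hp2, hk, ?_, ?_, ?_⟩
  · rw [← Subgroup.orderOf_coe]
    show orderOf σ = _
    rw [← lcm_cycleType, hσ, hlcm]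
  · have h1 : IsConj σ σ⁻¹ := isConj_iff_cycleType_eq.2 (by rw [cycleType_inv])
    obtain ⟨c, hc'⟩ := isConj_iff.1 h1
    by_cases hcs : c ∈ alternatingGroup (Fin n)
    · exact isConj_iff.2 ⟨⟨c, hcs⟩, Subtype.ext hc'⟩
    · have hcs' : sign c = -1 := by
        rcases Int.units_eq_one_or (sign c) with h | h
        · exact absurd (mem_alternatingGroup.2 h) hcs
        · exact h
      have hmem : c * τ ∈ alternatingGroup (Fin n) := by
        rw [mem_alternatingGroup, Equiv.Perm.sign_mul, hcs', hτs]
        rfl
      refine isConj_iff.2 ⟨⟨c * τ, hmem⟩, Subtype.ext ?_⟩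
      show c * τ * σ * (c * τ)⁻¹ = σ⁻¹
      rw [mul_assoc c, hτ, mul_inv_rev, ← hc']
      group
  · rw [hcard, Nat.odd_iff]
    omega

theorem alt_seventeen : RealOdd (alternatingGroup (Fin 17)) := by
  classical
  let σ : Perm (Fin 17) := Equiv.addRight 1
  have hcyc : σ = finRotate 17 := by decide +kernel
  have hct : σ.cycleType = {17} := by rw [hcyc]; exact cycleType_finRotate (n := 15)
  have hσ : σ ∈ alternatingGroup (Fin 17) := by
    rw [mem_alternatingGroup, sign_of_cycleType, hct]
    decide
  let c : Perm (Fin 17) := Equiv.neg (Fin 17)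
  have hc : c ∈ alternatingGroup (Fin 17) := by
    rw [mem_alternatingGroup]
    decide +kernel
  have hcσ : c * σ * c⁻¹ = σ⁻¹ := by decide +kernel
  have hC : Nat.card (centralizer ({σ} : Set (Perm (Fin 17)))) = 17 := by
    rw [nat_card_centralizer, hct, Fintype.card_fin]
    decide +kernel
  refine ⟨⟨σ, hσ⟩, 17, 1, by norm_num, by norm_num, le_rfl, ?_, ?_, ?_⟩
  · rw [← Subgroup.orderOf_coe]
    show orderOf σ = _
    rw [← lcm_cycleType, hct]
    decide +kernel
  · exact isConj_iff.2 ⟨⟨c, hc⟩, Subtype.ext hcσ⟩
  · have h1 : Nat.card (centralizer ({⟨σ, hσ⟩} : Set (alternatingGroup (Fin 17)))) ∣ 17 := by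
      refine Dvd.dvd.trans ?_ (dvd_of_eq hC)
      have h2 : (centralizer ({⟨σ, hσ⟩} : Set (alternatingGroup (Fin 17)))).map (alternatingGroup (Fin 17)).subtype ≤
          centralizer ({σ} : Set (Perm (Fin 17))) := by
        rintro _ ⟨g, hg, rfl⟩
        have h := mem_centralizer_singleton_iff.1 hg
        rw [mem_centralizer_singleton_iff]
        exact congrArg Subtype.val h
      have h3 := Subgroup.card_dvd_of_le h2
      rwa [Nat.card_congr ((centralizer ({⟨σ, hσ⟩} : Set (alternatingGroup (Fin 17)))).equivMapOfInjective _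
        (alternatingGroup (Fin 17)).subtype_injective).symm.toEquiv] at h3
    exact Odd.of_dvd_nat (by decide) h1

set_option maxRecDepth 4000 in
theorem alt_table {n : ℕ} (h5 : 5 ≤ n) (h41 : n ≤ 41) (h24 : n ≠ 24) : RealOdd (alternatingGroup (Fin n)) := by
  interval_cases n
  · exact alt_real (p := 3) (k := 1) ({3} : Multiset ℕ) (by norm_num) (by norm_num) (by norm_num) (by decide) (by decide)
      (by decide) (by decide +kernel) (Or.inl (by decide)) (by decide +kernel)
  · exact alt_real (p := 3) (k := 1) ({3} : Multiset ℕ) (by norm_num) (by norm_num) (by norm_num) (by decide) (by decide)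
      (by decide) (by decide +kernel) (Or.inl (by decide)) (by decide +kernel)
  · exact alt_real (p := 3) (k := 1) ({3, 3} : Multiset ℕ) (by norm_num) (by norm_num) (by norm_num) (by decide) (by decide)
      (by decide) (by decide +kernel) (Or.inr fun h => absurd (h 3) (by decide)) (by decide +kernel)
  · exact alt_real (p := 5) (k := 1) ({5} : Multiset ℕ) (by norm_num) (by norm_num) (by norm_num) (by decide) (by decide)
      (by decide) (by decide +kernel) (Or.inl (by decide)) (by decide +kernel)
  · exact alt_real (p := 3) (k := 1) ({3, 3, 3} : Multiset ℕ) (by norm_num) (by norm_num) (by norm_num) (by decide) (by decide)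
      (by decide) (by decide +kernel) (Or.inr fun h => absurd (h 3) (by decide)) (by decide +kernel)
  · exact alt_real (p := 3) (k := 1) ({3, 3, 3} : Multiset ℕ) (by norm_num) (by norm_num) (by norm_num) (by decide) (by decide)
      (by decide) (by decide +kernel) (Or.inr fun h => absurd (h 3) (by decide)) (by decide +kernel)
  · exact alt_real (p := 3) (k := 2) ({9} : Multiset ℕ) (by norm_num) (by norm_num) (by norm_num) (by decide) (by decide)
      (by decide) (by decide +kernel) (Or.inl (by decide)) (by decide +kernel)
  · exact alt_real (p := 3) (k := 2) ({9} : Multiset ℕ) (by norm_num) (by norm_num) (by norm_num) (by decide) (by decide)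
      (by decide) (by decide +kernel) (Or.inl (by decide)) (by decide +kernel)
  · exact alt_real (p := 11) (k := 1) ({11} : Multiset ℕ) (by norm_num) (by norm_num) (by norm_num) (by decide) (by decide)
      (by decide) (by decide +kernel) (Or.inl (by decide)) (by decide +kernel)
  · exact alt_real (p := 3) (k := 2) ({9, 3} : Multiset ℕ) (by norm_num) (by norm_num) (by norm_num) (by decide) (by decide)
      (by decide) (by decide +kernel) (Or.inl (by decide)) (by decide +kernel)
  · exact alt_real (p := 3) (k := 2) ({9, 3} : Multiset ℕ) (by norm_num) (by norm_num) (by norm_num) (by decide) (by decide)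
      (by decide) (by decide +kernel) (Or.inl (by decide)) (by decide +kernel)
  · exact alt_real (p := 3) (k := 2) ({9, 3, 3} : Multiset ℕ) (by norm_num) (by norm_num) (by norm_num) (by decide) (by decide)
      (by decide) (by decide +kernel) (Or.inr fun h => absurd (h 3) (by decide)) (by decide +kernel)
  · exact alt_seventeen
  · exact alt_real (p := 3) (k := 2) ({9, 3, 3, 3} : Multiset ℕ) (by norm_num) (by norm_num) (by norm_num) (by decide) (by decide)
      (by decide) (by decide +kernel) (Or.inr fun h => absurd (h 3) (by decide)) (by decide +kernel)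
  · exact alt_real (p := 3) (k := 2) ({9, 3, 3, 3} : Multiset ℕ) (by norm_num) (by norm_num) (by norm_num) (by decide) (by decide)
      (by decide) (by decide +kernel) (Or.inr fun h => absurd (h 3) (by decide)) (by decide +kernel)
  · exact alt_real (p := 17) (k := 1) ({17} : Multiset ℕ) (by norm_num) (by norm_num) (by norm_num) (by decide) (by decide)
      (by decide) (by decide +kernel) (Or.inl (by decide)) (by decide +kernel)
  · exact alt_real (p := 3) (k := 2) ({9, 9, 3} : Multiset ℕ) (by norm_num) (by norm_num) (by norm_num) (by decide) (by decide)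
      (by decide) (by decide +kernel) (Or.inr fun h => absurd (h 9) (by decide)) (by decide +kernel)
  · exact alt_real (p := 3) (k := 2) ({9, 9, 3} : Multiset ℕ) (by norm_num) (by norm_num) (by norm_num) (by decide) (by decide)
      (by decide) (by decide +kernel) (Or.inr fun h => absurd (h 9) (by decide)) (by decide +kernel)
  · exact alt_real (p := 11) (k := 1) ({11, 11} : Multiset ℕ) (by norm_num) (by norm_num) (by norm_num) (by decide) (by decide)
      (by decide) (by decide +kernel) (Or.inr fun h => absurd (h 11) (by decide)) (by decide +kernel)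
  · exact absurd rfl h24
  · exact alt_real (p := 23) (k := 1) ({23} : Multiset ℕ) (by norm_num) (by norm_num) (by norm_num) (by decide) (by decide)
      (by decide) (by decide +kernel) (Or.inl (by decide)) (by decide +kernel)
  · exact alt_real (p := 13) (k := 1) ({13, 13} : Multiset ℕ) (by norm_num) (by norm_num) (by norm_num) (by decide) (by decide)
      (by decide) (by decide +kernel) (Or.inr fun h => absurd (h 13) (by decide)) (by decide +kernel)
  · exact alt_real (p := 3) (k := 2) ({9, 9, 9} : Multiset ℕ) (by norm_num) (by norm_num) (by norm_num) (by decide) (by decide)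
      (by decide) (by decide +kernel) (Or.inr fun h => absurd (h 9) (by decide)) (by decide +kernel)
  · exact alt_real (p := 3) (k := 2) ({9, 9, 9} : Multiset ℕ) (by norm_num) (by norm_num) (by norm_num) (by decide) (by decide)
      (by decide) (by decide +kernel) (Or.inr fun h => absurd (h 9) (by decide)) (by decide +kernel)
  · exact alt_real (p := 3) (k := 3) ({27} : Multiset ℕ) (by norm_num) (by norm_num) (by norm_num) (by decide) (by decide)
      (by decide) (by decide +kernel) (Or.inl (by decide)) (by decide +kernel)
  · exact alt_real (p := 3) (k := 3) ({27} : Multiset ℕ) (by norm_num) (by norm_num) (by norm_num) (by decide) (by decide)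
      (by decide) (by decide +kernel) (Or.inl (by decide)) (by decide +kernel)
  · exact alt_real (p := 3) (k := 2) ({9, 9, 9, 3} : Multiset ℕ) (by norm_num) (by norm_num) (by norm_num) (by decide) (by decide)
      (by decide) (by decide +kernel) (Or.inr fun h => absurd (h 9) (by decide)) (by decide +kernel)
  · exact alt_real (p := 3) (k := 3) ({27, 3} : Multiset ℕ) (by norm_num) (by norm_num) (by norm_num) (by decide) (by decide)
      (by decide) (by decide +kernel) (Or.inl (by decide)) (by decide +kernel)
  · exact alt_real (p := 3) (k := 3) ({27, 3, 3} : Multiset ℕ) (by norm_num) (by norm_num) (by norm_num) (by decide) (by decide)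
      (by decide) (by decide +kernel) (Or.inr fun h => absurd (h 3) (by decide)) (by decide +kernel)
  · exact alt_real (p := 3) (k := 3) ({27, 3, 3} : Multiset ℕ) (by norm_num) (by norm_num) (by norm_num) (by decide) (by decide)
      (by decide) (by decide +kernel) (Or.inr fun h => absurd (h 3) (by decide)) (by decide +kernel)
  · exact alt_real (p := 5) (k := 2) ({25, 5, 5} : Multiset ℕ) (by norm_num) (by norm_num) (by norm_num) (by decide) (by decide)
      (by decide) (by decide +kernel) (Or.inr fun h => absurd (h 5) (by decide)) (by decide +kernel)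
  · exact alt_real (p := 3) (k := 3) ({27, 3, 3, 3} : Multiset ℕ) (by norm_num) (by norm_num) (by norm_num) (by decide) (by decide)
      (by decide) (by decide +kernel) (Or.inr fun h => absurd (h 3) (by decide)) (by decide +kernel)
  · exact alt_real (p := 3) (k := 3) ({27, 3, 3, 3} : Multiset ℕ) (by norm_num) (by norm_num) (by norm_num) (by decide) (by decide)
      (by decide) (by decide +kernel) (Or.inr fun h => absurd (h 3) (by decide)) (by decide +kernel)
  · exact alt_real (p := 3) (k := 3) ({27, 9} : Multiset ℕ) (by norm_num) (by norm_num) (by norm_num) (by decide) (by decide)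
      (by decide) (by decide +kernel) (Or.inl (by decide)) (by decide +kernel)
  · exact alt_real (p := 3) (k := 3) ({27, 9} : Multiset ℕ) (by norm_num) (by norm_num) (by norm_num) (by decide) (by decide)
      (by decide) (by decide +kernel) (Or.inl (by decide)) (by decide +kernel)
  · exact alt_real (p := 5) (k := 2) ({25, 5, 5, 5} : Multiset ℕ) (by norm_num) (by norm_num) (by norm_num) (by decide) (by decide)
      (by decide) (by decide +kernel) (Or.inr fun h => absurd (h 5) (by decide)) (by decide +kernel)
  · exact alt_real (p := 5) (k := 2) ({25, 5, 5, 5} : Multiset ℕ) (by norm_num) (by norm_num) (by norm_num) (by decide) (by decide)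
      (by decide) (by decide +kernel) (Or.inr fun h => absurd (h 5) (by decide)) (by decide +kernel)

open Cfsg.Agent.H463.PairAlt in
/-- helper463's pair: a 3-cycle and an even 2-element inverting it -/
theorem alt_normPair {n : ℕ} (hn : 5 ≤ n) : NormPair (alternatingGroup (Fin n)) := by
  obtain ⟨y, hy1, hyk, hf1, hf2, a, b, hab, hya, hyb⟩ := exists_y hn
  obtain ⟨c, hc⟩ : ∃ c, y c = c := by
    by_contra h
    push Not at h
    have : y.support = Finset.univ := by
      ext z
      simp [h z]
    rw [this, Finset.card_univ, Fintype.card_fin] at hf2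
    omega
  have hac : a ≠ c := by rintro rfl; exact hab (hc.symm.trans hya)
  have hbc : b ≠ c := by rintro rfl; exact hab (hyb.symm.trans hc)
  have h3 : (swap a b * swap a c).IsThreeCycle := isThreeCycle_swap_mul_swap_same hab hac hbc
  set x : alternatingGroup (Fin n) := ⟨swap a b * swap a c, h3.mem_alternatingGroup⟩ with hx
  set Y : alternatingGroup (Fin n) := ⟨y, mem_alternatingGroup.2 hy1⟩ with hY
  have hxo : orderOf x = 3 := by
    rw [← Subgroup.orderOf_coe]; exact h3.orderOf
  have hYo : orderOf Y = orderOf y := by rw [← Subgroup.orderOf_coe]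
  have hYk : ∃ k : ℕ, orderOf Y = 2 ^ k := by rw [hYo]; exact hyk
  have hconj : Y * x * Y⁻¹ = x⁻¹ := by
    rw [mul_inv_eq_iff_eq_mul]
    apply Subtype.ext
    show y * (swap a b * swap a c) = (swap a b * swap a c)⁻¹ * y
    have h5 : y * swap a b = swap a b * y := by rw [mul_swap_eq_swap_mul, hya, hyb, swap_comm]
    have h6 : y * swap a c = swap b c * y := by rw [mul_swap_eq_swap_mul, hya, hc]
    have h7 : swap a b * swap b c = swap a c * swap a b := by
      rw [mul_swap_eq_swap_mul, swap_apply_right, swap_apply_of_ne_of_ne hac.symm hbc.symm]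
    rw [mul_inv_rev, swap_inv, swap_inv, ← mul_assoc, h5, mul_assoc, h6, ← mul_assoc, h7]
  have hyn : Y ∈ Subgroup.normalizer (Subgroup.zpowers x : Set (alternatingGroup (Fin n))) := by
    rw [Subgroup.mem_normalizer_iff]
    intro g
    constructor
    · rintro ⟨m, rfl⟩
      show Y * x ^ m * Y⁻¹ ∈ _
      rw [← conj_zpow, hconj]
      exact zpow_mem (inv_mem (Subgroup.mem_zpowers x)) m
    · rintro ⟨m, hm⟩
      refine ⟨-m, ?_⟩
      have h5 : g = Y⁻¹ * x ^ m * Y := by
        have : x ^ m = Y * g * Y⁻¹ := hm
        rw [this]; group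
      have h6 : Y⁻¹ * x * Y = x⁻¹ := by
        have h7 : x = Y⁻¹ * x⁻¹ * Y := by rw [← hconj]; group
        have h8 := congrArg (·⁻¹) h7
        simp only [mul_inv_rev, inv_inv] at h8
        rw [← mul_assoc] at h8
        exact h8.symm
      rw [h5]
      have h9 : Y⁻¹ * x ^ m * Y = (Y⁻¹ * x * Y) ^ m := by
        have := conj_zpow (a := Y⁻¹) (b := x) (i := m)
        rw [inv_inv] at this
        exact this.symm
      show x ^ (-m) = _
      rw [h9, h6, inv_zpow, zpow_neg]
  refine ⟨3, x, Y, Nat.prime_three, by norm_num, ?_, ?_, ⟨1, by rw [hxo, pow_one]⟩, hYk, hyn, ?_⟩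
  · intro h
    rw [h, orderOf_one] at hxo
    omega
  · intro h
    have h5 : y = 1 := congrArg Subtype.val h
    apply hab
    rw [← hya, h5]; rfl
  · intro e he
    have hcom : (e⁻¹ x : alternatingGroup (Fin n)) * Y = Y * e⁻¹ x := by
      have h5 := congrArg (fun z => e⁻¹ z) he.eq
      simp only [map_mul] at h5
      rwa [MulAut.inv_apply_self] at h5
    have hcom' : ((e⁻¹ x : alternatingGroup (Fin n)) : Perm (Fin n)) * y = y * ((e⁻¹ x : alternatingGroup (Fin n)) : Perm (Fin n)) :=
      congrArg Subtype.val hcom
    rcases Nat.lt_or_ge n 7 with h7 | h7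
    · have ho : orderOf ((e⁻¹ x : alternatingGroup (Fin n)) : Perm (Fin n)) = 3 := by
        rw [Subgroup.orderOf_coe, ← hxo]
        exact orderOf_injective (e⁻¹ : MulAut _).toMonoidHom (e⁻¹ : MulAut _).injective x
      refine small (by omega) hcom' ?_ ?_ hyk hf1 hf2
      · rw [← ho]; exact pow_orderOf_eq_one _
      · intro h
        rw [h, orderOf_one] at ho
        omega
    · exact large hcom' (Cfsg.Agent.StandardComponent.AltAut.isThreeCycle_map h7 e⁻¹ h3) hyk hf1

/-- **alternating groups** -/
theorem alt_pair {G : Type*} [Group G] (h : Cfsg.IsAlternating G) : NormPair G := by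
  obtain ⟨n, hn, ⟨e⟩⟩ := h
  exact NormPair.congr e.symm (alt_normPair hn)

theorem alt_row {G : Type*} [Group G] (h : Cfsg.IsAlternating G) :
    RealOdd G ∨ ∃ n : ℕ, (42 ≤ n ∨ n = 24) ∧ Nonempty (G ≃* ↥(alternatingGroup (Fin n))) := by
  obtain ⟨n, hn, ⟨e⟩⟩ := h
  by_cases h : 42 ≤ n ∨ n = 24
  · exact Or.inr ⟨n, h, ⟨e⟩⟩
  · push Not at h
    exact Or.inl (RealOdd.congr e.symm (alt_table hn (by omega) h.2))

end Cfsg.Agent.H101.RO
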