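import Cfsg.Agent.H101.ROLin

/-!
# Algebras with involution and a generator of odd prime power order

* `exists_field` : the field of degree `2 m` over the finite field `F`, with the automorphism `D` of order 2 and a
  generator `lam` of odd prime power order, `lam * D lam = 1`;
* `exists_split` : the algebra `L × L`, `L` the field of odd degree `m`, `D` the exchange.
-/

set_option autoImplicit false
set_option linter.style.haveILetI false

namespace Cfsg.Agent.H101.RO

open Module

section General

variable {F : Type*} [Field F]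

/-- A finite ring of characteristic zero divisors: unit of finite order in a finite field. -/
theorem exists_pow_eq_one {K : Type*} [Field K] [Finite K] {a : K} (ha : a ≠ 0) : ∃ N, 1 ≤ N ∧ a ^ N = 1 := by
  haveI : Fintype K := Fintype.ofFinite K
  refine ⟨Fintype.card K - 1, ?_, FiniteField.pow_card_sub_one_eq_one a ha⟩
  have := Fintype.one_lt_card (α := K)
  omega

/-- An element of given order `P ∣ |K| - 1`. -/
theorem exists_order {K : Type*} [Field K] [Finite K] {P : ℕ} (h : P ∣ Nat.card K - 1) :
    ∃ a : K, a ≠ 0 ∧ ∀ j : ℕ, a ^ j = 1 ↔ P ∣ j := by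
  obtain ⟨g, hg⟩ := IsCyclic.exists_generator (α := Kˣ)
  have hcard : orderOf g = Nat.card K - 1 := by
    rw [orderOf_eq_card_of_forall_mem_zpowers hg, Nat.card_units]
  obtain ⟨c, hc⟩ := h
  have hc0 : c ≠ 0 := by
    rintro rfl
    have h1 : 1 < Nat.card K := Finite.one_lt_card
    omega
  refine ⟨(g ^ c : Kˣ), Units.ne_zero _, fun j => ?_⟩
  rw [← Units.val_pow_eq_pow_val, Units.val_eq_one, ← orderOf_dvd_iff_pow_eq_one,
    orderOf_pow_of_dvd hc0 (by rw [hcard, hc]; exact dvd_mul_left c P), hcard, hc, Nat.mul_div_cancel _ (Nat.pos_of_ne_zero hc0)]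

/-- Generation of a finite extension by an element of large order. -/
theorem adjoin_eq_top {K : Type*} [Field K] [Finite K] [Finite F] [Algebra F K] {lam : K} (h0 : lam ≠ 0) {N P : ℕ}
    (hN : finrank F K = N) (hP : ∀ j : ℕ, lam ^ j = 1 ↔ P ∣ j) (hd : ∀ j, P ∣ Nat.card F ^ j - 1 ↔ N ∣ j) :
    Algebra.adjoin F {lam} = ⊤ := by
  haveI : Module.Finite F K := inferInstance
  have hint : IsIntegral F lam := Algebra.IsIntegral.isIntegral lam
  have h1 : (IntermediateField.adjoin F {lam}).toSubalgebra = Algebra.adjoin F {lam} :=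
    IntermediateField.adjoin_simple_toSubalgebra_of_isAlgebraic (Algebra.IsAlgebraic.isAlgebraic lam)
  set L := IntermediateField.adjoin F {lam} with hL
  have hmem : lam ∈ L := IntermediateField.mem_adjoin_simple_self F lam
  have hcard : Nat.card L = Nat.card F ^ finrank F L := Module.natCard_eq_pow_finrank
  have h2 : lam ^ (Nat.card F ^ finrank F L - 1) = 1 := by
    haveI : Fintype L := Fintype.ofFinite L
    have h3 : (⟨lam, hmem⟩ : L) ^ (Fintype.card L - 1) = 1 :=
      FiniteField.pow_card_sub_one_eq_one _ (fun h => h0 (congrArg Subtype.val h))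
    have h4 := congrArg Subtype.val h3
    rw [← hcard, Nat.card_eq_fintype_card]
    exact h4
  have h3 : N ∣ finrank F L := (hd _).1 ((hP _).1 h2)
  have h4 : finrank F L = finrank F K := by
    refine le_antisymm (IntermediateField.finrank_le_of_le_right le_top |>.trans ?_) ?_
    · rw [IntermediateField.finrank_top']
    · rw [hN]
      exact Nat.le_of_dvd finrank_pos h3
  have h5 : L = ⊤ := by
    apply IntermediateField.eq_of_le_of_finrank_eq le_top
    rw [h4, IntermediateField.finrank_top']
  rw [← h1, h5, IntermediateField.top_toSubalgebra]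

/-- Endomorphisms commuting with a generator are multiplications. -/
theorem eq_mulLeft_of_comm {A : Type*} [CommRing A] [Algebra F A] {lam : A} (hgen : Algebra.adjoin F {lam} = ⊤)
    (g : Module.End F A) (hg : ∀ v, g (lam * v) = lam * g v) (v : A) : g v = g 1 * v := by
  have h : v ∈ Algebra.adjoin F {lam} := by rw [hgen]; trivial
  have key : ∀ a ∈ Algebra.adjoin F {lam}, ∀ w, g (a * w) = a * g w := by
    intro a ha
    induction ha using Algebra.adjoin_induction with
    | mem x hx =>
      rw [Set.mem_singleton_iff] at hx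
      rw [hx]
      exact hg
    | algebraMap r =>
      intro w
      rw [← Algebra.smul_def, map_smul, Algebra.smul_def]
    | add x y _ _ hx hy => intro w; rw [add_mul, map_add, hx, hy, add_mul]
    | mul x y _ _ hx hy => intro w; rw [mul_assoc, hx, hy, mul_assoc]
  have := key v h 1
  rw [mul_one] at this
  rw [this, mul_comm]

/-- Generation of `A × F` by `(lam, 1)`. -/
theorem adjoin_prod_one {A : Type*} [CommRing A] [Algebra F A] {lam : A} (hgen : Algebra.adjoin F {lam} = ⊤) {N : ℕ}
    (hN : 1 ≤ N) (hu : (lam - 1) ^ N = 1) : Algebra.adjoin F {((lam, 1) : A × F)} = ⊤ := by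
  set B := Algebra.adjoin F {((lam, 1) : A × F)} with hB
  have hl : ((lam, 1) : A × F) ∈ B := Algebra.subset_adjoin rfl
  have he1 : ((1, 0) : A × F) ∈ B := by
    have h1 : ((lam, 1) : A × F) - 1 ∈ B := sub_mem hl (one_mem _)
    have h2 : ((1, 0) : A × F) = (((lam, 1) : A × F) - 1) ^ N := by
      rw [Prod.ext_iff]
      constructor
      · show 1 = (lam - 1) ^ N
        rw [hu]
      · show (0 : F) = (1 - 1) ^ N
        rw [sub_self, zero_pow (by omega)]
    rw [h2]
    exact pow_mem h1 N
  have he2 : ((0, 1) : A × F) ∈ B := by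
    have : ((0, 1) : A × F) = 1 - (1, 0) := by
      rw [Prod.ext_iff]; exact ⟨(sub_self 1).symm, (sub_zero 1).symm⟩
    rw [this]
    exact sub_mem (one_mem _) he1
  have key : ∀ a ∈ Algebra.adjoin F {lam}, ((a, 0) : A × F) ∈ B := by
    intro a ha
    induction ha using Algebra.adjoin_induction with
    | mem x hx =>
      rw [Set.mem_singleton_iff] at hx
      rw [hx]
      have : ((lam, 0) : A × F) = (lam, 1) * (1, 0) := by
        rw [Prod.ext_iff]; exact ⟨(mul_one lam).symm, (mul_zero (1 : F)).symm⟩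
      rw [this]
      exact mul_mem hl he1
    | algebraMap r =>
      have : ((algebraMap F A r, 0) : A × F) = r • (1, 0) := by
        rw [Prod.ext_iff]
        exact ⟨by show _ = r • (1 : A); rw [Algebra.smul_def, mul_one], (smul_zero r).symm⟩
      rw [this]
      exact B.smul_mem he1 r
    | add x y _ _ hx hy =>
      have : ((x + y, 0) : A × F) = (x, 0) + (y, 0) := by rw [Prod.mk_add_mk, add_zero]
      rw [this]; exact add_mem hx hy
    | mul x y _ _ hx hy =>
      have : ((x * y, 0) : A × F) = (x, 0) * (y, 0) := by rw [Prod.mk_mul_mk, mul_zero]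
      rw [this]; exact mul_mem hx hy
  rw [eq_top_iff]
  rintro ⟨a, c⟩ -
  have : ((a, c) : A × F) = (a, 0) + c • (0, 1) := by
    rw [Prod.ext_iff]
    exact ⟨by show a = a + c • (0 : A); rw [smul_zero, add_zero], by show c = 0 + c * 1; rw [mul_one, zero_add]⟩
  rw [this]
  exact add_mem (key a (by rw [hgen]; trivial)) (B.smul_mem he2 c)

end General

/-- **The field algebra with involution.** -/
theorem exists_field (F : Type) [Field F] [Finite F] {m : ℕ} (hm : 1 ≤ m)
    (h1 : m = 1 → ¬ ∃ k, Nat.card F + 1 = 2 ^ k) :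
    ∃ (K : Type) (_ : Field K) (_ : Finite K) (_ : Algebra F K) (D : K ≃ₐ[F] K) (lam : K) (p k : ℕ),
      finrank F K = 2 * m ∧ (∀ v, D v = v ^ (Nat.card F ^ m)) ∧ (∀ v, D (D v) = v) ∧ lam * D lam = 1 ∧
      p.Prime ∧ p ≠ 2 ∧ 1 ≤ k ∧ (∀ j : ℕ, lam ^ j = 1 ↔ p ^ k ∣ j) ∧ Algebra.adjoin F {lam} = ⊤ ∧
      ¬ p ∣ Nat.card F ∧ (∀ j, p ^ k ∣ Nat.card F ^ j - 1 ↔ 2 * m ∣ j) := by
  obtain ⟨r, hr⟩ := CharP.exists F
  have hrp : Fact r.Prime := ⟨CharP.char_is_prime F r⟩
  haveI : NeZero (2 * m) := ⟨by omega⟩
  obtain ⟨p, k, hp, hp2, hk, hd, hd', hpq⟩ := exists_primpow (q := Nat.card F) (m := m) Finite.one_lt_card hm h1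
  let K := FiniteField.Extension F r (2 * m)
  have hcard : Nat.card K = Nat.card F ^ (2 * m) := FiniteField.natCard_extension F r (2 * m)
  have hfin : finrank F K = 2 * m := FiniteField.finrank_extension F r (2 * m)
  obtain ⟨lam, h0, hlam⟩ := exists_order (K := K) (P := p ^ k) (by rw [hcard]; exact (hd _).2 dvd_rfl)
  let D : K ≃ₐ[F] K := FiniteField.Extension.frob F r (2 * m) ^ m
  have hD : ∀ v : K, D v = v ^ (Nat.card F ^ m) := fun v => FiniteField.Extension.frob_iterate_apply F r (2 * m) m
  refine ⟨K, inferInstance, inferInstance, inferInstance, D, lam, p, k, hfin, hD, ?_, ?_, hp, hp2, hk, hlam, ?_, hpq, hd⟩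
  · intro v
    rw [hD, hD, ← pow_mul, ← pow_add, ← two_mul, ← hcard]
    haveI : Fintype K := Fintype.ofFinite K
    rw [Nat.card_eq_fintype_card]
    exact FiniteField.pow_card v
  · rw [hD, ← pow_succ', hlam]
    exact hd'
  · exact adjoin_eq_top h0 hfin hlam hd

/-- Generation of `L × L` by a pair of non-conjugate generators. -/
theorem adjoin_pair {F : Type*} [Field F] [Finite F] {L : Type*} [Field L] [Finite L] [Algebra F L] {lam lam' : L}
    (hgen : Algebra.adjoin F {lam} = ⊤) (hgen' : Algebra.adjoin F {lam'} = ⊤) (hne' : ∀ σ : L ≃ₐ[F] L, σ lam ≠ lam') :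
    Algebra.adjoin F {((lam, lam') : L × L)} = ⊤ := by
  haveI : Module.Finite F L := inferInstance
  -- `lam'` is not conjugate to `lam`
  have hne : Polynomial.aeval lam' (minpoly F lam) ≠ 0 := by
    intro h
    obtain ⟨σ, hσ⟩ := minpoly.exists_algEquiv_of_root (K := F) (x := lam') (y := lam)
      (Algebra.IsAlgebraic.isAlgebraic lam) h
    exact hne' σ.symm (by rw [← hσ]; exact σ.symm_apply_apply lam')
  set B := Algebra.adjoin F {((lam, lam') : L × L)} with hB
  have hl : ((lam, lam') : L × L) ∈ B := Algebra.subset_adjoin rfl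
  have he2 : ((0, 1) : L × L) ∈ B := by
    obtain ⟨N, hN, hN1⟩ := exists_pow_eq_one hne
    have h1 : Polynomial.aeval ((lam, lam') : L × L) (minpoly F lam) ∈ B :=
      Polynomial.aeval_mem_adjoin_singleton F _
    have h2 : Polynomial.aeval ((lam, lam') : L × L) (minpoly F lam) =
        (0, Polynomial.aeval lam' (minpoly F lam)) := by
      refine Prod.ext ?_ ?_
      · have := Polynomial.aeval_algHom_apply (AlgHom.fst F L L) ((lam, lam') : L × L) (minpoly F lam)
        have h3 : AlgHom.fst F L L ((lam, lam') : L × L) = lam := rfl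
        rw [h3, minpoly.aeval] at this
        exact this.symm
      · have := Polynomial.aeval_algHom_apply (AlgHom.snd F L L) ((lam, lam') : L × L) (minpoly F lam)
        exact this.symm
    rw [h2] at h1
    have h3 := pow_mem h1 N
    have h4 : ((0, Polynomial.aeval lam' (minpoly F lam)) : L × L) ^ N = (0, 1) := by
      refine Prod.ext ?_ ?_
      · show (0 : L) ^ N = 0
        rw [zero_pow (by omega)]
      · exact hN1
    rwa [h4] at h3
  have he1 : ((1, 0) : L × L) ∈ B := by
    have : ((1, 0) : L × L) = 1 - (0, 1) := by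
      rw [Prod.ext_iff]; exact ⟨(sub_zero 1).symm, (sub_self 1).symm⟩
    rw [this]
    exact sub_mem (one_mem _) he2
  have key1 : ∀ a ∈ Algebra.adjoin F {lam}, ((a, 0) : L × L) ∈ B := by
    intro a ha
    induction ha using Algebra.adjoin_induction with
    | mem x hx =>
      rw [Set.mem_singleton_iff] at hx
      rw [hx]
      have : ((lam, 0) : L × L) = (lam, lam') * (1, 0) := by
        rw [Prod.ext_iff]; exact ⟨(mul_one lam).symm, (mul_zero _).symm⟩
      rw [this]
      exact mul_mem hl he1
    | algebraMap r =>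
      have : ((algebraMap F L r, 0) : L × L) = r • (1, 0) := by
        rw [Prod.ext_iff]
        exact ⟨by show _ = r • (1 : L); rw [Algebra.smul_def, mul_one], (smul_zero r).symm⟩
      rw [this]
      exact B.smul_mem he1 r
    | add x y _ _ hx hy =>
      have : ((x + y, 0) : L × L) = (x, 0) + (y, 0) := by rw [Prod.mk_add_mk, add_zero]
      rw [this]; exact add_mem hx hy
    | mul x y _ _ hx hy =>
      have : ((x * y, 0) : L × L) = (x, 0) * (y, 0) := by rw [Prod.mk_mul_mk, mul_zero]
      rw [this]; exact mul_mem hx hy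
  have key2 : ∀ a ∈ Algebra.adjoin F {lam'}, ((0, a) : L × L) ∈ B := by
    intro a ha
    induction ha using Algebra.adjoin_induction with
    | mem x hx =>
      rw [Set.mem_singleton_iff] at hx
      rw [hx]
      have : ((0, lam') : L × L) = (lam, lam') * (0, 1) := by
        rw [Prod.ext_iff]; exact ⟨(mul_zero _).symm, (mul_one _).symm⟩
      rw [this]
      exact mul_mem hl he2
    | algebraMap r =>
      have : ((0, algebraMap F L r) : L × L) = r • (0, 1) := by
        rw [Prod.ext_iff]
        exact ⟨(smul_zero r).symm, by show _ = r • (1 : L); rw [Algebra.smul_def, mul_one]⟩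
      rw [this]
      exact B.smul_mem he2 r
    | add x y _ _ hx hy =>
      have : ((0, x + y) : L × L) = (0, x) + (0, y) := by rw [Prod.mk_add_mk, add_zero]
      rw [this]; exact add_mem hx hy
    | mul x y _ _ hx hy =>
      have : ((0, x * y) : L × L) = (0, x) * (0, y) := by rw [Prod.mk_mul_mk, mul_zero]
      rw [this]; exact mul_mem hx hy
  rw [eq_top_iff]
  rintro ⟨a, c⟩ -
  have : ((a, c) : L × L) = (a, 0) + (0, c) := by rw [Prod.mk_add_mk, add_zero, zero_add]
  rw [this]
  exact add_mem (key1 a (by rw [hgen]; trivial)) (key2 c (by rw [hgen']; trivial))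

/-- **The split algebra with involution**, `m` odd. -/
theorem exists_split (F : Type) [Field F] [Finite F] {m : ℕ} (hm : Odd m) {p : ℕ} (hp : p.Prime) (hp2 : p ≠ 2)
    (hd : ∀ j, p ∣ Nat.card F ^ j - 1 ↔ m ∣ j) :
    ∃ (L : Type) (_ : Field L) (_ : Finite L) (_ : Algebra F L) (lam : L),
      finrank F L = m ∧ (∀ j : ℕ, lam ^ j = 1 ↔ p ∣ j) ∧ lam ≠ 0 ∧
      Algebra.adjoin F {((lam, lam⁻¹) : L × L)} = ⊤ := by
  obtain ⟨r, hrc⟩ := CharP.exists F
  have hrp : Fact r.Prime := ⟨CharP.char_is_prime F r⟩
  have hm0 : 0 < m := hm.pos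
  haveI : NeZero m := ⟨by omega⟩
  let L := FiniteField.Extension F r m
  have hcard : Nat.card L = Nat.card F ^ m := FiniteField.natCard_extension F r m
  have hfin : finrank F L = m := FiniteField.finrank_extension F r m
  obtain ⟨lam, h0, hlam⟩ := exists_order (K := L) (P := p) (by rw [hcard]; exact (hd _).2 dvd_rfl)
  have hgen : Algebra.adjoin F {lam} = ⊤ := adjoin_eq_top h0 hfin hlam hd
  have hlam' : ∀ j : ℕ, (lam⁻¹) ^ j = 1 ↔ p ∣ j := fun j => by rw [inv_pow, inv_eq_one, hlam]
  have hgen' : Algebra.adjoin F {lam⁻¹} = ⊤ := adjoin_eq_top (inv_ne_zero h0) hfin hlam' hd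
  refine ⟨L, inferInstance, inferInstance, inferInstance, lam, hfin, hlam, h0, adjoin_pair hgen hgen' ?_⟩
  -- `lam⁻¹` is not conjugate to `lam`
  intro σ hσ
  have h2 : σ ^ 2 = 1 := by
    have h3 : ∀ v ∈ Algebra.adjoin F {lam}, (σ ^ 2) v = v := by
      intro v hv
      induction hv using Algebra.adjoin_induction with
      | mem x hx =>
        rw [Set.mem_singleton_iff] at hx
        rw [hx, sq]
        show σ (σ lam) = lam
        rw [hσ, map_inv₀, hσ, inv_inv]
      | algebraMap r => exact AlgEquiv.commutes _ r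
      | add x y _ _ hx hy => rw [map_add, hx, hy]
      | mul x y _ _ hx hy => rw [map_mul, hx, hy]
    apply AlgEquiv.ext
    intro v
    exact h3 v (by rw [hgen]; trivial)
  have h3 : Nat.card (L ≃ₐ[F] L) = m := by
    rw [IsGalois.card_aut_eq_finrank, hfin]
  have h4 : orderOf σ ∣ m := (orderOf_dvd_natCard σ).trans h3.dvd
  have h5 : orderOf σ = 1 := Nat.eq_one_of_dvd_coprimes (Nat.coprime_two_left.2 hm) (orderOf_dvd_of_pow_eq_one h2) h4
  rw [orderOf_eq_one_iff] at h5
  rw [h5] at hσ
  have h6 : lam = lam⁻¹ := hσ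
  have h7 : lam ^ 2 = 1 := by
    rw [sq]; nth_rewrite 2 [h6]; exact mul_inv_cancel₀ h0
  exact hp2 ((Nat.prime_dvd_prime_iff_eq hp Nat.prime_two).1 ((hlam 2).1 h7))

end Cfsg.Agent.H101.RO
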