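import Cfsg.Agent.H101.ROPsl

/-!
# The centraliser of a unipotent element of type `J_n ⊕ J_1`
-/

set_option autoImplicit false
set_option linter.style.haveILetI false

namespace Cfsg.Agent.H101.RO

open Module Polynomial

/-- unipotent endomorphisms have determinant one -/
theorem det_of_unip {F : Type*} [Field F] {p : ℕ} [CharP F p] (hp : p.Prime) {V : Type*} [AddCommGroup V] [Module F V]
    {g : Module.End F V} (hg : IsNilpotent (g - 1)) : LinearMap.det g = 1 := by
  haveI : Fact p.Prime := ⟨hp⟩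
  by_cases hV : Nontrivial V
  · haveI : CharP (Module.End F V) p := charP_of_injective_algebraMap (algebraMap F (Module.End F V)).injective p
    haveI : ExpChar (Module.End F V) p := ExpChar.prime hp
    haveI : ExpChar F p := ExpChar.prime hp
    obtain ⟨N, hN⟩ := hg
    have h1 : (g - 1) ^ (p ^ N) = 0 := by
      obtain ⟨c, hc⟩ := Nat.exists_eq_add_of_le (Nat.lt_pow_self hp.one_lt : N < p ^ N).le
      rw [hc, pow_add, hN, zero_mul]
    rw [sub_pow_expChar_pow_of_commute p N (Commute.one_right g), one_pow, sub_eq_zero] at h1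
    have h2 : (LinearMap.det g - 1) ^ (p ^ N) = 0 := by
      rw [sub_pow_expChar_pow, one_pow, ← map_pow, h1, map_one, sub_self]
    have h3 := pow_eq_zero_iff (pow_ne_zero N hp.ne_zero) |>.1 h2
    exact sub_eq_zero.1 h3
  · haveI := not_nontrivial_iff_subsingleton.1 hV
    rw [Subsingleton.elim g 1, map_one]

namespace Tr

variable (F : Type*) [Field F] {n : ℕ}

/-- the constant term -/
noncomputable def eps (hn : 0 < n) : Tr F n →ₐ[F] F :=
  AdjoinRoot.liftAlgHom (X ^ n : F[X]) (Algebra.ofId F F) 0 (by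
    rw [eval₂_pow, eval₂_X, zero_pow (by omega)])

theorem eps_r (hn : 0 < n) : eps F hn (r F n) = 0 := AdjoinRoot.liftAlgHom_root _ _ _ _

theorem exists_eps (hn : 0 < n) (a : Tr F n) : ∃ c : Tr F n, a = algebraMap F (Tr F n) (eps F hn a) + r F n * c := by
  obtain ⟨t, c, h⟩ := exists_eq F n a
  refine ⟨c, ?_⟩
  have : eps F hn a = t := by
    rw [h, map_add, map_mul, eps_r, zero_mul, add_zero]
    exact AlgHom.commutes _ t
  rw [this]
  exact h

theorem isUnit_of_eps (hn : 0 < n) {a : Tr F n} (h : eps F hn a ≠ 0) : IsUnit a := by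
  obtain ⟨c, hc⟩ := exists_eps F hn a
  rw [hc]
  exact ((Commute.all _ _).isNilpotent_mul_right (isNilpotent_r F n)).isUnit_add_left_of_commute
    (h.isUnit.map _) (Commute.all _ _)

theorem r_ne_zero (hn : 2 ≤ n) : r F n ≠ 0 := by
  intro h
  have h5 := basis_apply F n ⟨1, by omega⟩
  rw [show (((⟨1, by omega⟩ : Fin n) : ℕ)) = 1 from rfl, pow_one, h] at h5
  exact (basis F n).ne_zero _ h5

theorem eps_of_r_mul (hn : 2 ≤ n) {b : Tr F n} (h : r F n * b = 0) : eps F (by omega : 0 < n) b = 0 := by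
  by_contra hb
  exact r_ne_zero F hn (((isUnit_of_eps F _ hb).mul_left_eq_zero).1 h)

theorem jj_comm_r [Finite F] (h2 : (2 : F) ≠ 0) {g : Module.End F (Tr F n × F)}
    (hg : ∀ v, g ((lam F n, 1) * v) = (lam F n, 1) * g v) (v : Tr F n × F) : g ((r F n, 0) * v) = (r F n, 0) * g v := by
  haveI := finite F n
  have hu : IsUnit (((lam F n, 1) : Tr F n × F) + 1) := by
    rw [Prod.isUnit_iff]
    refine ⟨isUnit_lam_add_one F n h2, ?_⟩
    show IsUnit ((1 : F) + 1)
    rw [one_add_one_eq_two]
    exact h2.isUnit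
  obtain ⟨u, hu⟩ := hu
  have h1 : ∀ v, g ((u : Tr F n × F) * v) = (u : Tr F n × F) * g v := by
    intro v
    rw [hu, add_mul, one_mul, map_add, hg, add_mul, one_mul]
  have h3 : ∀ v, g (((u⁻¹ : (Tr F n × F)ˣ) : Tr F n × F) * v) = ((u⁻¹ : (Tr F n × F)ˣ) : Tr F n × F) * g v := by
    intro v
    have h4 := h1 (((u⁻¹ : (Tr F n × F)ˣ) : Tr F n × F) * v)
    rw [← mul_assoc, Units.mul_inv, one_mul] at h4
    rw [h4, ← mul_assoc, Units.inv_mul, one_mul]
  have h4 : ((r F n, 0) : Tr F n × F) = ((u⁻¹ : (Tr F n × F)ˣ) : Tr F n × F) * ((lam F n, 1) - 1) := by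
    have h5 : (u : Tr F n × F) * (r F n, 0) = (lam F n, 1) - 1 := by
      rw [hu]
      refine Prod.ext ?_ ?_
      · show (lam F n + 1) * r F n = lam F n - 1
        rw [mul_comm, r_mul]
      · show ((1 : F) + 1) * 0 = 1 - 1
        rw [mul_zero, sub_self]
    rw [← h5, ← mul_assoc, Units.inv_mul, one_mul]
  rw [h4, mul_assoc, h3, sub_mul, one_mul, map_sub, hg]
  rw [mul_assoc, sub_mul, one_mul]

theorem jj_form [Finite F] (h2 : (2 : F) ≠ 0) (hn : 2 ≤ n) {g : Module.End F (Tr F n × F)}
    (hg : ∀ v, g ((lam F n, 1) * v) = (lam F n, 1) * g v) :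
    ∃ (a b : Tr F n) (c d : F), r F n * b = 0 ∧
      ∀ (u : Tr F n) (t : F), g (u, t) = (u * a + t • b, eps F (by omega : 0 < n) u * c + t * d) := by
  have hr := jj_comm_r F h2 hg
  obtain ⟨a, c, hac⟩ : ∃ a c, g (1, 0) = (a, c) := ⟨_, _, rfl⟩
  obtain ⟨b, d, hbd⟩ : ∃ b d, g (0, 1) = (b, d) := ⟨_, _, rfl⟩
  refine ⟨a, b, c, d, ?_, ?_⟩
  · have h1 := hr (0, 1)
    rw [Prod.mk_mul_mk, mul_zero, zero_mul, hbd, Prod.mk_mul_mk, zero_mul] at h1
    have h3 : g ((0, 0) : Tr F n × F) = 0 := map_zero g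
    rw [h3] at h1
    exact (congrArg Prod.fst h1).symm
  · have hpow : ∀ i : ℕ, g (r F n ^ i, 0) = (r F n ^ i * a, (0 : F) ^ i * c) := by
      intro i
      induction i with
      | zero => rw [pow_zero, pow_zero, one_mul, one_mul, hac]
      | succ i ih =>
        have h1 := hr (r F n ^ i, 0)
        rw [ih, Prod.mk_mul_mk, Prod.mk_mul_mk, mul_zero, zero_mul] at h1
        rw [pow_succ', h1, mul_assoc, pow_succ', zero_mul, zero_mul]
    have hlin : g ∘ₗ LinearMap.inl F (Tr F n) F =
        LinearMap.prod (LinearMap.mulRight F a) (c • (eps F (by omega : 0 < n)).toLinearMap) := by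
      apply (basis F n).ext
      intro i
      rw [LinearMap.comp_apply, LinearMap.inl_apply, LinearMap.prod_apply, basis_apply, hpow]
      refine Prod.ext rfl ?_
      show (0 : F) ^ (i : ℕ) * c = c * eps F (by omega : 0 < n) (r F n ^ (i : ℕ))
      rw [map_pow, eps_r, mul_comm]
    intro u t
    have h1 : ((u, t) : Tr F n × F) = (u, 0) + t • (0, 1) := by
      refine Prod.ext ?_ ?_
      · show u = u + t • (0 : Tr F n)
        rw [smul_zero, add_zero]
      · show t = 0 + t * 1
        rw [mul_one, zero_add]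
    have h3 : g (u, 0) = (u * a, c * eps F (by omega : 0 < n) u) := LinearMap.congr_fun hlin u
    rw [h1, map_add, map_smul, h3, hbd]
    refine Prod.ext rfl ?_
    show c * eps F (by omega : 0 < n) u + t * d = _
    rw [mul_comm]

/-- **centraliser of `J_n ⊕ J_1`**: elements with scalar square -/
theorem jj_sq [Finite F] {p : ℕ} [CharP F p] (hp : p.Prime) (h2 : (2 : F) ≠ 0) (hn : 2 ≤ n)
    {g : Module.End F (Tr F n × F)} (hg : ∀ v, g ((lam F n, 1) * v) = (lam F n, 1) * g v) {s : F} (hs : s ≠ 0)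
    (hsq : g * g = s • 1) :
    (∃ t : F, g = t • 1) ∨ ∃ t : F, t * t = s ∧ LinearMap.det g = (-t) ^ n * t := by
  obtain ⟨a, b, c, d, hrb, hform⟩ := jj_form F h2 hn hg
  have hn0 : 0 < n := by omega
  have heb : eps F hn0 b = 0 := eps_of_r_mul F hn hrb
  have h01 : g (g (0, 1)) = (0, s) := by
    have := LinearMap.congr_fun hsq (0, 1)
    rw [Module.End.mul_apply, LinearMap.smul_apply, Module.End.one_apply, Prod.smul_mk, smul_zero, smul_eq_mul,
      mul_one] at this
    exact this
  have h10 : g (g (1, 0)) = (algebraMap F (Tr F n) s, 0) := by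
    have := LinearMap.congr_fun hsq (1, 0)
    rw [Module.End.mul_apply, LinearMap.smul_apply, Module.End.one_apply, Prod.smul_mk, smul_zero,
      ← Algebra.algebraMap_eq_smul_one] at this
    exact this
  rw [hform 0 1, zero_mul, zero_add, one_smul, map_zero, zero_mul, zero_add, one_mul, hform, heb, zero_mul, zero_add,
    Prod.mk.injEq] at h01
  rw [hform 1 0, one_mul, zero_smul, add_zero, map_one, one_mul, zero_mul, add_zero, hform, Prod.mk.injEq] at h10
  obtain ⟨h01a, h01b⟩ := h01
  obtain ⟨h10a, h10b⟩ := h10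
  have hea : eps F hn0 a * eps F hn0 a = s := by
    have := congrArg (eps F hn0) h10a
    rw [map_add, map_mul, map_smul, heb, smul_zero, add_zero] at this
    rw [this]
    exact AlgHom.commutes _ s
  have hd0 : d ≠ 0 := by rintro rfl; rw [mul_zero] at h01b; exact hs h01b.symm
  have hcase : eps F hn0 a = d ∨ eps F hn0 a = -d := mul_self_eq_mul_self_iff.1 (by rw [hea, h01b])
  rcases hcase with h | h
  · left
    have hc0 : c = 0 := by
      rw [h] at h10b
      have h3 : c * (2 * d) = 0 := by linear_combination h10b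
      exact (mul_eq_zero.1 h3).resolve_right (mul_ne_zero h2 hd0)
    have hb0 : b = 0 := by
      have hu : IsUnit (a + algebraMap F (Tr F n) d) := by
        refine isUnit_of_eps F hn0 ?_
        rw [map_add, h]
        have : eps F hn0 (algebraMap F (Tr F n) d) = d := AlgHom.commutes _ d
        rw [this, ← two_mul]
        exact mul_ne_zero h2 hd0
      have h3 : (a + algebraMap F (Tr F n) d) * b = 0 := by
        rw [add_mul, ← Algebra.smul_def, mul_comm]; exact h01a
      exact (hu.mul_right_eq_zero).1 h3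
    rw [hc0, zero_smul, add_zero] at h10a
    obtain ⟨t, ht⟩ := eq_of_sq h2 hs h10a
    have htd : t = d := by
      rw [ht] at h
      rw [← h]
      exact (AlgHom.commutes _ t).symm
    refine ⟨d, ?_⟩
    apply LinearMap.ext
    rintro ⟨u, t'⟩
    rw [hform, hb0, hc0, ht, htd, smul_zero, add_zero, mul_zero, zero_add, LinearMap.smul_apply, Module.End.one_apply,
      Prod.smul_mk, mul_comm u, ← Algebra.smul_def, smul_eq_mul, mul_comm t']
  · right
    refine ⟨d, h01b, ?_⟩
    -- the unipotent part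
    set z : Module.End F (Tr F n × F) :=
      LinearMap.prodMap ((-d⁻¹) • LinearMap.id) (d⁻¹ • LinearMap.id) with hz
    have hdetz : LinearMap.det z = (-d⁻¹) ^ n * d⁻¹ := by
      rw [hz, LinearMap.det_prodMap, LinearMap.det_smul, LinearMap.det_smul, LinearMap.det_id, LinearMap.det_id,
        finrank_eq, Module.finrank_self, mul_one, mul_one, pow_one]
    obtain ⟨e, he⟩ := exists_eps F hn0 a
    have hgz : ∀ u t, (g * z - 1) (u, t) = (-(d⁻¹ • (u * (r F n * e))) + (d⁻¹ * t) • b, -(d⁻¹ * (eps F hn0 u * c))) := by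
      intro u t
      rw [LinearMap.sub_apply, Module.End.mul_apply, Module.End.one_apply]
      have h3 : z (u, t) = ((-d⁻¹) • u, d⁻¹ * t) := rfl
      rw [h3, hform]
      refine Prod.ext ?_ ?_
      · show (-d⁻¹) • u * a + (d⁻¹ * t) • b - u = _
        have h4 : (-d⁻¹) • u * a - u = -(d⁻¹ • (u * (r F n * e))) := by
          conv_lhs => rw [he, h]
          rw [smul_mul_assoc, mul_add, smul_add, map_neg, mul_neg, smul_neg, neg_smul, neg_neg, mul_comm u (algebraMap F _ d),
            ← Algebra.smul_def, smul_smul, inv_mul_cancel₀ hd0, one_smul, neg_smul]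
          ring
        rw [← h4]; ring
      · show eps F hn0 ((-d⁻¹) • u) * c + d⁻¹ * t * d - t = _
        rw [map_smul, smul_eq_mul]
        field_simp
        ring
    have hnil : IsNilpotent (g * z - 1) := by
      refine ⟨n + 3, ?_⟩
      obtain ⟨b', hb'⟩ := exists_eps F hn0 b
      rw [heb, map_zero, zero_add] at hb'
      -- on `r A × 0`
      have h3 : ∀ (m : ℕ) (w : Tr F n), ((g * z - 1) ^ m) (r F n * w, 0) =
          (r F n * (w * ((-d⁻¹) • (r F n * e)) ^ m), 0) := by
        intro m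
        induction m with
        | zero => intro w; rw [pow_zero, pow_zero, mul_one, Module.End.one_apply]
        | succ m ih =>
          intro w
          rw [pow_succ, Module.End.mul_apply, hgz]
          have h5 : (-(d⁻¹ • (r F n * w * (r F n * e))) + (d⁻¹ * 0) • b, -(d⁻¹ * (eps F hn0 (r F n * w) * c))) =
              (r F n * (w * ((-d⁻¹) • (r F n * e))), (0 : F)) := by
            refine Prod.ext ?_ ?_
            · show -(d⁻¹ • (r F n * w * (r F n * e))) + (d⁻¹ * 0) • b = r F n * (w * ((-d⁻¹) • (r F n * e)))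
              rw [mul_zero, zero_smul, add_zero, mul_smul_comm, mul_smul_comm, neg_smul, mul_assoc]
            · show -(d⁻¹ * (eps F hn0 (r F n * w) * c)) = 0
              rw [map_mul, eps_r, zero_mul, zero_mul, mul_zero, neg_zero]
          rw [h5, ih]
          refine Prod.ext ?_ rfl
          show r F n * (w * ((-d⁻¹) • (r F n * e)) * ((-d⁻¹) • (r F n * e)) ^ m) = _
          rw [pow_succ']; ring
      have h4 : ∀ (u : Tr F n) (t : F), ∃ w : Tr F n, (g * z - 1) ((g * z - 1) (u, t)) = (r F n * w, 0) := by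
        intro u t
        rw [hgz, hgz]
        refine ⟨-(d⁻¹ • ((-(d⁻¹ • (u * (r F n * e))) + (d⁻¹ * t) • b) * e)) +
          (d⁻¹ * -(d⁻¹ * (eps F hn0 u * c))) • b', Prod.ext ?_ ?_⟩
        · show -(d⁻¹ • ((-(d⁻¹ • (u * (r F n * e))) + (d⁻¹ * t) • b) * (r F n * e))) +
            (d⁻¹ * -(d⁻¹ * (eps F hn0 u * c))) • b = _
          conv_lhs => rw [hb']
          conv_rhs => rw [hb']
          simp only [Algebra.smul_def]
          ring
        · show -(d⁻¹ * (eps F hn0 (-(d⁻¹ • (u * (r F n * e))) + (d⁻¹ * t) • b) * c)) = 0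
          rw [map_add, map_neg, map_smul, map_smul, map_mul, map_mul, eps_r, heb]
          simp
      apply LinearMap.ext
      rintro ⟨u, t⟩
      obtain ⟨w, hw⟩ := h4 u t
      rw [show n + 3 = (n + 1) + 2 by ring, pow_add, Module.End.mul_apply, sq, Module.End.mul_apply, hw, h3]
      refine Prod.ext ?_ rfl
      show r F n * (w * ((-d⁻¹) • (r F n * e)) ^ (n + 1)) = 0
      rw [_root_.smul_pow, mul_pow, r_pow_of_le F n (by omega : n ≤ n + 1), zero_mul, smul_zero, mul_zero, mul_zero]
    have h5 := det_of_unip hp hnil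
    rw [map_mul, hdetz] at h5
    have h6 : (-d⁻¹) ^ n * d⁻¹ * ((-d) ^ n * d) = 1 := by
      have h7 : (-d⁻¹) ^ n * (-d) ^ n = 1 := by
        rw [← mul_pow, neg_mul_neg, inv_mul_cancel₀ hd0, one_pow]
      calc (-d⁻¹) ^ n * d⁻¹ * ((-d) ^ n * d) = ((-d⁻¹) ^ n * (-d) ^ n) * (d⁻¹ * d) := by ring
        _ = 1 := by rw [h7, inv_mul_cancel₀ hd0, one_mul]
    calc LinearMap.det g = LinearMap.det g * ((-d⁻¹) ^ n * d⁻¹ * ((-d) ^ n * d)) := by rw [h6, mul_one]
      _ = (LinearMap.det g * ((-d⁻¹) ^ n * d⁻¹)) * ((-d) ^ n * d) := by ring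
      _ = (-d) ^ n * d := by rw [h5, one_mul]

end Tr

end Cfsg.Agent.H101.RO
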