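import Cfsg.Agent.H101.RealOdd
import Cfsg.Agent.Lib.Zsigmondy

/-!
# The criterion `RealOdd` for `PSL_n(F)`

* `exists_primpow` : a power of an odd prime `P` with `P ∣ q ^ j - 1 ↔ 2 * m ∣ j`, `P ∣ q ^ m + 1`;
* `psl_crit` : two endomorphisms `x`, `y` of determinant one of a space `V` of dimension `n`, `x y x = y`, `x` of odd
  prime power order, such that the endomorphisms of determinant 1 and scalar square commuting with `x` are scalars.
-/

set_option autoImplicit false
set_option linter.style.haveILetI false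

namespace Cfsg.Agent.H101.RO

open Module

/-! ### number theory -/

theorem pow_add_one_or {q m p k : ℕ} (hp : p.Prime) (hp2 : p ≠ 2) (hq : 1 ≤ q)
    (h : p ^ k ∣ q ^ (2 * m) - 1) (hn : ¬ p ^ k ∣ q ^ m - 1) : p ^ k ∣ q ^ m + 1 := by
  have h3 : q ^ (2 * m) - 1 = (q ^ m + 1) * (q ^ m - 1) := by
    have := Nat.sq_sub_sq (q ^ m) 1
    rw [one_pow] at this
    rw [mul_comm 2 m, pow_mul, this]
  rw [h3] at h
  have h1 : 1 ≤ q ^ m := Nat.one_le_pow _ _ hq
  by_cases hd : p ∣ q ^ m + 1
  · have hnd : ¬ p ∣ q ^ m - 1 := by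
      intro h4
      have h5 : p ∣ 2 := by
        have := Nat.dvd_sub hd h4
        have e : q ^ m + 1 - (q ^ m - 1) = 2 := by omega
        rwa [e] at this
      exact hp2 ((Nat.prime_dvd_prime_iff_eq hp Nat.prime_two).1 h5)
    exact (Nat.Coprime.pow_left k ((Nat.Prime.coprime_iff_not_dvd hp).2 hnd)).dvd_of_dvd_mul_right h
  · exact absurd ((Nat.Coprime.pow_left k ((Nat.Prime.coprime_iff_not_dvd hp).2 hd)).dvd_of_dvd_mul_left h) hn

/-- A power of an odd prime of multiplicative order `2 m` for `q`. -/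
theorem exists_primpow {q m : ℕ} (hq : 2 ≤ q) (hm : 1 ≤ m) (h1 : m = 1 → ¬ ∃ k, q + 1 = 2 ^ k) :
    ∃ p k : ℕ, p.Prime ∧ p ≠ 2 ∧ 1 ≤ k ∧ (∀ j, p ^ k ∣ q ^ j - 1 ↔ 2 * m ∣ j) ∧ p ^ k ∣ q ^ m + 1 ∧ ¬ p ∣ q := by
  by_cases h6 : q = 2 ∧ 2 * m = 6
  · obtain ⟨rfl, h6⟩ := h6
    have hm3 : m = 3 := by omega
    subst hm3
    have key : ∀ j, 3 ^ 2 ∣ 2 ^ j - 1 ↔ 2 * 3 ∣ j := by
      intro j
      have h9 : (3 ^ 2 ∣ 2 ^ j - 1) ↔ 2 ^ j % 9 = 1 := by
        have : 1 ≤ 2 ^ j := Nat.one_le_two_pow
        norm_num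
        omega
      rw [h9]
      obtain ⟨a, r, hr, rfl⟩ : ∃ a r, r < 6 ∧ j = 6 * a + r := ⟨j / 6, j % 6, Nat.mod_lt _ (by norm_num), by omega⟩
      have : 2 ^ (6 * a + r) % 9 = 2 ^ r % 9 := by
        rw [pow_add, pow_mul, Nat.mul_mod, Nat.pow_mod]
        norm_num
      rw [this]
      interval_cases r <;> norm_num <;> omega
    exact ⟨3, 2, Nat.prime_three, by norm_num, by norm_num, key, by norm_num, by norm_num⟩
  · obtain ⟨r, hr, hm', hd, hrq⟩ := Cfsg.Agent.Lib.Zsigmondy.exists_primitive (a := q) (n := 2 * m) hq (by omega)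
      (fun h => h1 (by omega)) h6
    have hr2 : r ≠ 2 := by
      rintro rfl
      have := Nat.le_of_dvd (by norm_num) hd
      have hm1 : m = 1 ∨ m = 0 := by omega
      rcases hm1 with rfl | rfl
      · exact absurd this (by norm_num)
      · omega
    refine ⟨r, 1, hr, hr2, le_rfl, fun j => by rw [pow_one]; exact hm' j, ?_, hrq⟩
    refine pow_add_one_or hr hr2 (by omega) (by rw [pow_one]; exact (hm' _).2 dvd_rfl) ?_
    rw [pow_one, hm']
    intro h
    have := Nat.le_of_dvd (by omega) h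
    omega

/-! ### the criterion -/

section Crit

variable {F : Type*} [Field F] {V : Type*} [AddCommGroup V] [Module F V] {n : ℕ} (b : Basis (Fin n) F V)

/-- the element of `SL_n` -/
noncomputable def slOf (g : V →ₗ[F] V) (h : LinearMap.det g = 1) : Matrix.SpecialLinearGroup (Fin n) F :=
  ⟨LinearMap.toMatrix b b g, by rw [LinearMap.det_toMatrix, h]⟩

/-- the endomorphism -/
noncomputable def endOf (M : Matrix.SpecialLinearGroup (Fin n) F) : Module.End F V :=
  (LinearMap.toMatrixAlgEquiv b).symm M.1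

theorem endOf_slOf (g : V →ₗ[F] V) (h : LinearMap.det g = 1) : endOf b (slOf b g h) = g := by
  unfold endOf slOf
  exact (LinearMap.toMatrixAlgEquiv b).symm_apply_apply g

theorem endOf_mul (M N : Matrix.SpecialLinearGroup (Fin n) F) : endOf b (M * N) = endOf b M * endOf b N := by
  unfold endOf
  rw [← map_mul]
  rfl

theorem endOf_one : endOf b (1 : Matrix.SpecialLinearGroup (Fin n) F) = 1 := by
  unfold endOf
  exact map_one _

theorem endOf_injective : Function.Injective (endOf b) := fun _ _ h =>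
  Subtype.ext ((LinearMap.toMatrixAlgEquiv b).symm.injective h)

theorem endOf_pow (M : Matrix.SpecialLinearGroup (Fin n) F) (j : ℕ) : endOf b (M ^ j) = endOf b M ^ j := by
  induction j with
  | zero => rw [pow_zero, pow_zero, endOf_one]
  | succ j ih => rw [pow_succ, pow_succ, endOf_mul, ih]

theorem det_endOf (M : Matrix.SpecialLinearGroup (Fin n) F) : LinearMap.det (endOf b M) = 1 := by
  have h : LinearMap.toMatrix b b (endOf b M) = M.1 := (LinearMap.toMatrixAlgEquiv b).apply_symm_apply M.1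
  rw [← LinearMap.det_toMatrix b, h, M.2]

theorem mem_center_iff_endOf [NeZero n] (M : Matrix.SpecialLinearGroup (Fin n) F) :
    M ∈ Subgroup.center (Matrix.SpecialLinearGroup (Fin n) F) ↔ ∃ s : F, endOf b M = s • (1 : Module.End F V) := by
  rw [Matrix.SpecialLinearGroup.mem_center_iff]
  constructor
  · rintro ⟨r, -, hr⟩
    refine ⟨r, ?_⟩
    unfold endOf
    rw [← hr]
    have : Matrix.scalar (Fin n) r = r • (1 : Matrix (Fin n) (Fin n) F) := by
      rw [Matrix.smul_one_eq_diagonal]; rfl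
    rw [this, map_smul, map_one]
  · rintro ⟨s, hs⟩
    have h1 : M.1 = s • (1 : Matrix (Fin n) (Fin n) F) := by
      have : M.1 = LinearMap.toMatrixAlgEquiv b (endOf b M) := ((LinearMap.toMatrixAlgEquiv b).apply_symm_apply M.1).symm
      rw [this, hs, map_smul, map_one]
    have h2 := M.2
    rw [h1, Matrix.det_smul, Matrix.det_one, mul_one] at h2
    refine ⟨s, h2, ?_⟩
    rw [h1, Matrix.smul_one_eq_diagonal]; rfl

theorem smul_one_sq {s : F} : (s • (1 : Module.End F V)) * (s • (1 : Module.End F V)) = (s * s) • 1 := by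
  rw [smul_mul_smul_comm, one_mul]

/-- A scalar inverted by conjugation. -/
theorem pow_eq_one_of_scalar [Nontrivial V] {x y : Module.End F V} (hy : ∃ y', y * y' = 1)
    (hxy : x * y * x = y) {j : ℕ} {s : F} (hs : x ^ j = s • (1 : Module.End F V)) : x ^ (2 * j) = 1 := by
  obtain ⟨y', hy'⟩ := hy
  have h1 : ∀ i : ℕ, x ^ i * y * x ^ i = y := by
    intro i
    induction i with
    | zero => rw [pow_zero, one_mul, mul_one]
    | succ i ih =>
      have e : x ^ (i + 1) * y * x ^ (i + 1) = x ^ i * (x * y * x) * x ^ i := by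
        nth_rewrite 1 [pow_succ]
        rw [pow_succ']
        noncomm_ring
      rw [e, hxy, ih]
  have h2 := h1 j
  rw [hs] at h2
  have h3 : (s * s) • y = y := by
    rw [smul_mul_assoc, one_mul, mul_smul_comm, mul_one, smul_smul] at h2
    exact h2
  have h4 : (s * s) • (1 : Module.End F V) = 1 := by
    calc (s * s) • (1 : Module.End F V) = (s * s) • (y * y') := by rw [hy']
      _ = ((s * s) • y) * y' := by rw [smul_mul_assoc]
      _ = 1 := by rw [h3, hy']
  rw [two_mul, pow_add, hs, smul_one_sq, h4]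

/-- **The criterion for a linear group modulo its centre (the scalars).** -/
theorem proj_crit {G : Type*} [Group G] [Finite G] (ρ : G →* Module.End F V) (hinj : Function.Injective ρ)
    (hcen : ∀ g, g ∈ Subgroup.center G ↔ ∃ s : F, ρ g = s • (1 : Module.End F V)) {X Y : G}
    (hxy : ρ X * ρ Y * ρ X = ρ Y) {p k : ℕ} (hp : p.Prime) (hp2 : p ≠ 2) (hk : 1 ≤ k)
    (hord : ∀ j, ρ X ^ j = 1 ↔ p ^ k ∣ j)
    (hc : ∀ (g : G) (s : F), ρ g * ρ X = ρ X * ρ g → ρ g * ρ g = s • 1 → ∃ t : F, ρ g = t • 1) :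
    RealOdd (G ⧸ Subgroup.center G) := by
  haveI : Nontrivial V := by
    rw [← not_subsingleton_iff_nontrivial]
    intro h
    have h1 : ∀ j, ρ X ^ j = 1 := fun j => Subsingleton.elim _ _
    have h2 := (hord 1).1 (h1 1)
    have h3 : 1 < p ^ k := Nat.one_lt_pow (by omega) hp.one_lt
    have := Nat.le_of_dvd one_pos h2
    omega
  have hpk : Odd (p ^ k) := (hp.odd_of_ne_two hp2).pow
  have hYinv : ∃ y', ρ Y * y' = 1 := ⟨ρ Y⁻¹, by rw [← map_mul, mul_inv_cancel, map_one]⟩
  have hXYX : X * Y * X = Y := hinj (by rw [map_mul, map_mul, hxy])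
  have hord' : ∀ j : ℕ, (QuotientGroup.mk X : G ⧸ Subgroup.center G) ^ j = 1 ↔ p ^ k ∣ j := by
    intro j
    rw [← QuotientGroup.mk_pow, QuotientGroup.eq_one_iff, hcen, map_pow]
    constructor
    · rintro ⟨s, hs⟩
      have h1 := (hord _).1 (pow_eq_one_of_scalar hYinv hxy hs)
      exact (Nat.Coprime.dvd_of_dvd_mul_left (Nat.Coprime.symm (Nat.coprime_two_left.2 hpk)) h1)
    · intro h
      exact ⟨1, by rw [(hord j).2 h, one_smul]⟩
  refine RealOdd.of_elts (x := (QuotientGroup.mk X : G ⧸ Subgroup.center G)) (y := QuotientGroup.mk Y) hp hp2 hk ?_ ?_ ?_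
  · apply Nat.dvd_antisymm
    · exact orderOf_dvd_of_pow_eq_one ((hord' _).2 dvd_rfl)
    · exact (hord' _).1 (pow_orderOf_eq_one _)
  · have : Y * X * Y⁻¹ = X⁻¹ := by
      have h1 : X⁻¹ * (X * Y * X) = X⁻¹ * Y := by rw [hXYX]
      have h2 : X⁻¹ * (X * Y * X) = Y * X := by group
      rw [← h2, h1]; group
    rw [← QuotientGroup.mk_mul, ← QuotientGroup.mk_inv, ← QuotientGroup.mk_mul, this, QuotientGroup.mk_inv]
  · intro t ht htx
    obtain ⟨T, rfl⟩ := QuotientGroup.mk_surjective t
    have h2 : (QuotientGroup.mk T : G ⧸ Subgroup.center G) ^ 2 = 1 := by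
      rw [← ht]; exact pow_orderOf_eq_one _
    rw [← QuotientGroup.mk_pow, QuotientGroup.eq_one_iff, hcen, map_pow] at h2
    obtain ⟨s, hs⟩ := h2
    have h3 : (X * T)⁻¹ * (T * X) ∈ Subgroup.center G := by
      rw [← QuotientGroup.eq]
      exact htx.symm
    rw [hcen] at h3
    obtain ⟨r, hr⟩ := h3
    set g := ρ T with hg
    have h4 : g * ρ X = r • (ρ X * g) := by
      have h5 : ρ (T * X) = ρ (X * T) * (r • 1) := by
        rw [← hr, ← map_mul]; congr 1; group
      rw [map_mul, map_mul, mul_smul_comm, mul_one] at h5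
      exact h5
    have hginv : g * ρ T⁻¹ = 1 := by rw [hg, ← map_mul, mul_inv_cancel, map_one]
    have hginv' : ρ T⁻¹ * g = 1 := by rw [hg, ← map_mul, inv_mul_cancel, map_one]
    have hxinv : ∃ x', ρ X * x' = 1 := ⟨ρ X⁻¹, by rw [← map_mul, mul_inv_cancel, map_one]⟩
    obtain ⟨x', hx'⟩ := hxinv
    rw [sq] at hs
    have h5 : g * g * ρ X = (r * r) • (ρ X * (g * g)) := by
      rw [mul_assoc, h4, mul_smul_comm, ← mul_assoc, h4, smul_mul_assoc, smul_smul, mul_assoc]
    have hs0 : s ≠ 0 := by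
      rintro rfl
      rw [zero_smul] at hs
      have : (1 : Module.End F V) = 0 := by
        calc (1 : Module.End F V) = g * ρ T⁻¹ := hginv.symm
          _ = g * 1 * ρ T⁻¹ := by rw [mul_one]
          _ = g * (g * ρ T⁻¹) * ρ T⁻¹ := by rw [hginv]
          _ = (g * g) * ρ T⁻¹ * ρ T⁻¹ := by noncomm_ring
          _ = 0 := by rw [hs, zero_mul, zero_mul]
      exact one_ne_zero this
    have h6 : (r * r) = 1 := by
      rw [hs, smul_mul_assoc, one_mul, mul_smul_comm, mul_one, smul_smul] at h5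
      have h7 : s • (1 : Module.End F V) = (r * r * s) • 1 := by
        calc s • (1 : Module.End F V) = (s • ρ X) * x' := by rw [smul_mul_assoc, hx']
          _ = ((r * r * s) • ρ X) * x' := by rw [← h5]
          _ = (r * r * s) • 1 := by rw [smul_mul_assoc, hx']
      obtain ⟨v, hv⟩ := exists_ne (0 : V)
      have h8 := LinearMap.congr_fun h7 v
      rw [LinearMap.smul_apply, LinearMap.smul_apply, Module.End.one_apply] at h8
      have h9 := smul_left_injective F hv h8
      have : (r * r - 1) * s = 0 := by linear_combination -h9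
      rcases mul_eq_zero.1 this with h | h
      · linear_combination h
      · exact absurd h hs0
    have hcomm : g * ρ X = ρ X * g := by
      rcases mul_self_eq_one_iff.1 h6 with rfl | rfl
      · rw [h4, one_smul]
      · -- `g x g⁻¹ = - x`
        have h7 : ∀ j : ℕ, g * ρ X ^ j = ((-1 : F) ^ j) • (ρ X ^ j * g) := by
          intro j
          induction j with
          | zero => rw [pow_zero, pow_zero, one_smul, mul_one, one_mul]
          | succ j ih =>
            rw [pow_succ (ρ X), ← mul_assoc, ih, smul_mul_assoc, mul_assoc, h4, mul_smul_comm, smul_smul, ← mul_assoc,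
              pow_succ (-1 : F)]
        have h8 := h7 (p ^ k)
        rw [(hord _).2 dvd_rfl, mul_one, one_mul, hpk.neg_one_pow] at h8
        have h9 : (2 : F) • g = 0 := by
          rw [two_smul]
          nth_rewrite 1 [h8]
          rw [neg_smul, one_smul, neg_add_cancel]
        have h10 : (2 : F) = 0 := by
          by_contra h
          have hg0 : g = 0 := (smul_eq_zero.1 h9).resolve_left h
          rw [hg0, zero_mul] at hginv
          exact zero_ne_one hginv
        have h11 : (-1 : F) = 1 := by linear_combination -h10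
        rw [h4, h11, one_smul]
    obtain ⟨t, ht'⟩ := hc T s hcomm hs
    have h7 : T ∈ Subgroup.center G := (hcen T).2 ⟨t, ht'⟩
    rw [(QuotientGroup.eq_one_iff T).2 h7, orderOf_one] at ht
    exact absurd ht (by norm_num)

/-- the representation of `SL_n` -/
noncomputable def slHom : Matrix.SpecialLinearGroup (Fin n) F →* Module.End F V where
  toFun := endOf b
  map_one' := endOf_one b
  map_mul' := endOf_mul b

include b in
/-- **The criterion for `PSL_n(F)`.** -/
theorem psl_crit [Finite F] [NeZero n] {x y : Module.End F V} (hx : LinearMap.det x = 1) (hy : LinearMap.det y = 1)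
    (hxy : x * y * x = y) {p k : ℕ} (hp : p.Prime) (hp2 : p ≠ 2) (hk : 1 ≤ k) (hord : ∀ j, x ^ j = 1 ↔ p ^ k ∣ j)
    (hc : ∀ (g : Module.End F V) (s : F), LinearMap.det g = 1 → g * x = x * g → g * g = s • 1 → ∃ t : F, g = t • 1) :
    RealOdd (Matrix.ProjectiveSpecialLinearGroup (Fin n) F) := by
  have hXe : slHom b (slOf b x hx) = x := endOf_slOf b x hx
  have hYe : slHom b (slOf b y hy) = y := endOf_slOf b y hy
  refine proj_crit (slHom b) (endOf_injective b) (mem_center_iff_endOf b) (X := slOf b x hx) (Y := slOf b y hy)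
    (by rw [hXe, hYe, hxy]) hp hp2 hk (by rw [hXe]; exact hord) ?_
  intro g s h1 h2
  rw [hXe] at h1
  exact hc _ s (det_endOf b g) h1 h2

end Crit

end Cfsg.Agent.H101.RO
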