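import Cfsg.Agent.H101.ROTrunc

/-!
# `RealOdd` for `PSL_n(q)`
-/

set_option autoImplicit false
set_option linter.style.haveILetI false

namespace Cfsg.Agent.H101.RO

open Module

section General

variable {F : Type*} [Field F] {V : Type*} [AddCommGroup V] [Module F V]

/-- an element of odd order inverted by `y` has determinant one -/
theorem det_eq_one_of_inv {x y : Module.End F V} (hy : LinearMap.det y ≠ 0) (hxy : x * y * x = y) {P : ℕ} (hP : Odd P)
    (hx : x ^ P = 1) : LinearMap.det x = 1 := by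
  have h1 : LinearMap.det x ^ 2 = 1 := by
    have h := congrArg LinearMap.det hxy
    rw [map_mul, map_mul] at h
    have h2 : LinearMap.det y * (LinearMap.det x ^ 2 - 1) = 0 := by linear_combination h
    rcases mul_eq_zero.1 h2 with h | h
    · exact absurd h hy
    · linear_combination h
  have h2 : LinearMap.det x ^ P = 1 := by rw [← map_pow, hx, map_one]
  have h3 : orderOf (LinearMap.det x) ∣ Nat.gcd 2 P :=
    Nat.dvd_gcd (orderOf_dvd_of_pow_eq_one h1) (orderOf_dvd_of_pow_eq_one h2)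
  rw [Nat.coprime_two_left.2 hP] at h3
  exact orderOf_eq_one_iff.1 (Nat.dvd_one.1 h3)

theorem mulLeft_pow_eq_one_iff {A : Type*} [Ring A] [Algebra F A] {a : A} {j : ℕ} :
    (LinearMap.mulLeft F a) ^ j = 1 ↔ a ^ j = 1 := by
  rw [LinearMap.pow_mulLeft]
  constructor
  · intro h
    have := LinearMap.congr_fun h 1
    rwa [LinearMap.mulLeft_apply, mul_one] at this
  · intro h
    rw [h, LinearMap.mulLeft_one]
    rfl

/-- commuting with `mulLeft lam` -/
theorem exists_mulLeft_of_comm {A : Type*} [CommRing A] [Algebra F A] {lam : A} (hgen : Algebra.adjoin F {lam} = ⊤)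
    {g : Module.End F A} (hg : g * LinearMap.mulLeft F lam = LinearMap.mulLeft F lam * g) :
    g = LinearMap.mulLeft F (g 1) := by
  ext v
  rw [LinearMap.mulLeft_apply]
  exact eq_mulLeft_of_comm hgen g (fun v => LinearMap.congr_fun hg v) v

/-- **Algebra criterion for `PSL_n`.** -/
theorem psl_alg {n : ℕ} [Finite F] [NeZero n] {A : Type*} [CommRing A] [Algebra F A] (b : Basis (Fin n) F A) {lam : A}
    (hgen : Algebra.adjoin F {lam} = ⊤) {y : Module.End F A} (hy : LinearMap.det y = 1)
    (hxy : ∀ v, lam * y (lam * v) = y v) {p k : ℕ} (hp : p.Prime) (hp2 : p ≠ 2) (hk : 1 ≤ k)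
    (hord : ∀ j, lam ^ j = 1 ↔ p ^ k ∣ j)
    (hc : ∀ (a : A) (s : F), s ≠ 0 → LinearMap.det (LinearMap.mulLeft F a) = 1 → a * a = algebraMap F A s →
      ∃ t : F, a = algebraMap F A t) :
    RealOdd (Matrix.ProjectiveSpecialLinearGroup (Fin n) F) := by
  have hpk : Odd (p ^ k) := (hp.odd_of_ne_two hp2).pow
  have hxy' : LinearMap.mulLeft F lam * y * LinearMap.mulLeft F lam = y := by
    ext v
    exact hxy v
  have hord' : ∀ j, LinearMap.mulLeft F lam ^ j = 1 ↔ p ^ k ∣ j := fun j => by rw [mulLeft_pow_eq_one_iff, hord]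
  have hx : LinearMap.det (LinearMap.mulLeft F lam) = 1 :=
    det_eq_one_of_inv (by rw [hy]; exact one_ne_zero) hxy' hpk ((hord' _).2 dvd_rfl)
  refine psl_crit b hx hy hxy' hp hp2 hk hord' ?_
  intro g s hdet hcomm hsq
  have hg := exists_mulLeft_of_comm hgen hcomm
  have h1 : g 1 * g 1 = algebraMap F A s := by
    have h2 := LinearMap.congr_fun hsq 1
    rw [Module.End.mul_apply, LinearMap.smul_apply, Module.End.one_apply] at h2
    rw [Algebra.algebraMap_eq_smul_one, ← h2]
    exact (LinearMap.congr_fun hg (g 1)).symm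
  have hs : s ≠ 0 := by
    rintro rfl
    have h2 := congrArg LinearMap.det hsq
    rw [zero_smul, map_mul, hdet, mul_one] at h2
    have h3 : LinearMap.det (0 : Module.End F A) = 0 := by
      rw [← LinearMap.det_toMatrix b, map_zero, Matrix.det_zero]
    rw [h3] at h2
    exact one_ne_zero h2
  obtain ⟨t, ht⟩ := hc (g 1) s hs (by rw [← hg]; exact hdet) h1
  refine ⟨t, ?_⟩
  rw [hg, ht]
  ext v
  rw [LinearMap.mulLeft_apply, LinearMap.smul_apply, Module.End.one_apply, Algebra.smul_def]

end General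

/-! ### the unipotent case -/

theorem exists_scalar_det {F : Type*} [Field F] {n : ℕ} (h : n % 4 ≠ 2 ∨ ∃ i : F, i ^ 2 = -1) :
    ∃ c : F, c ^ n * (-1) ^ (n / 2) = 1 := by
  have key : n % 4 = 2 ∨ n % 4 = 0 ∨ n % 2 = 1 := by omega
  rcases key with h2 | h0 | h1
  · rcases h with h | ⟨i, hi⟩
    · exact absurd h2 h
    · refine ⟨i, ?_⟩
      have : n = 2 * (n / 2) := by omega
      conv_lhs => rw [this]
      rw [pow_mul, hi, Nat.mul_div_cancel_left _ (by norm_num), ← mul_pow, neg_one_mul, neg_neg, one_pow]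
  · refine ⟨1, ?_⟩
    have : n / 2 = 2 * (n / 4) := by omega
    rw [this, pow_mul, neg_one_sq, one_pow, one_pow, one_mul]
  · refine ⟨(-1) ^ (n / 2), ?_⟩
    rw [← pow_mul, ← pow_add]
    apply Even.neg_one_pow
    have : n / 2 * n + n / 2 = n / 2 * (n + 1) := by ring
    rw [this]
    exact Even.mul_left (by rw [Nat.even_iff]; omega) _

theorem psl_unip (F : Type) [Field F] [Finite F] (h2 : (2 : F) ≠ 0) {n : ℕ} (hn : 2 ≤ n)
    (h : n % 4 ≠ 2 ∨ ∃ i : F, i ^ 2 = -1) : RealOdd (Matrix.ProjectiveSpecialLinearGroup (Fin n) F) := by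
  haveI : NeZero n := ⟨by omega⟩
  obtain ⟨p, hpc⟩ := CharP.exists F
  have hp : p.Prime := CharP.char_is_prime F p
  have hp2 : p ≠ 2 := by
    rintro rfl
    exact h2 (CharP.cast_eq_zero F 2)
  obtain ⟨k, hk, hord⟩ := Tr.exists_order_lam F n hp h2 hn
  obtain ⟨c, hc⟩ := exists_scalar_det h
  refine psl_alg (Tr.basis F n) (Tr.adjoin_lam F n h2) (y := c • (Tr.D F n).toLinearMap) ?_ ?_ hp hp2 hk hord ?_
  · rw [LinearMap.det_smul, Tr.finrank_eq, Tr.det_D, hc]
  · intro v
    rw [LinearMap.smul_apply, LinearMap.smul_apply, AlgHom.toLinearMap_apply, AlgHom.toLinearMap_apply, map_mul,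
      mul_smul_comm, ← mul_assoc, Tr.lam_mul_D, one_mul]
  · intro a s hs _ h
    exact Tr.eq_of_sq h2 hs h

/-! ### characteristic two -/

/-- square roots of scalars in a reduced algebra of characteristic two -/
theorem eq_of_sq_two {F : Type*} [Field F] [Finite F] (h2 : (2 : F) = 0) {A : Type*} [CommRing A] [Algebra F A]
    (hred : ∀ a : A, a * a = 0 → a = 0) {a : A} {s : F} (h : a * a = algebraMap F A s) :
    ∃ t : F, a = algebraMap F A t := by
  haveI : CharP F 2 := CharTwo.of_one_ne_zero_of_two_eq_zero one_ne_zero h2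
  obtain ⟨t, ht⟩ := isSquare_of_charTwo' s
  refine ⟨t, sub_eq_zero.1 (hred _ ?_)⟩
  have h3 : (2 : A) = 0 := by rw [← map_ofNat (algebraMap F A), h2, map_zero]
  rw [ht, map_mul] at h
  linear_combination h + (algebraMap F A t * algebraMap F A t - a * algebraMap F A t) * h3

/-- an involution has determinant one -/
theorem det_invol_two {F : Type*} [Field F] (h2 : (2 : F) = 0) {V : Type*} [AddCommGroup V] [Module F V]
    {y : Module.End F V} (hy : y * y = 1) : LinearMap.det y = 1 := by
  have h := congrArg LinearMap.det hy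
  rw [map_mul, map_one] at h
  have h3 : (LinearMap.det y - 1) ^ 2 = 0 := by linear_combination h - (LinearMap.det y - 1) * h2
  have := pow_eq_zero_iff (two_ne_zero) |>.1 h3
  linear_combination this

theorem even_card_two {F : Type*} [Field F] [Finite F] (h2 : (2 : F) = 0) : 2 ∣ Nat.card F := by
  haveI : CharP F 2 := CharTwo.of_one_ne_zero_of_two_eq_zero one_ne_zero h2
  haveI : Fintype F := Fintype.ofFinite F
  obtain ⟨m, -, hm⟩ := FiniteField.card F 2
  rw [Nat.card_eq_fintype_card, hm]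
  exact dvd_pow_self _ (PNat.ne_zero m)

theorem not_card_add_one_two {F : Type*} [Field F] [Finite F] (h2 : (2 : F) = 0) : ¬ ∃ k, Nat.card F + 1 = 2 ^ k := by
  rintro ⟨k, hk⟩
  have h1 := even_card_two h2
  have h3 : 1 < Nat.card F := Finite.one_lt_card
  rcases Nat.eq_zero_or_pos k with rfl | hk0
  · rw [pow_zero] at hk; omega
  · have : 2 ∣ 2 ^ k := dvd_pow_self _ (by omega)
    omega

theorem psl_even (F : Type) [Field F] [Finite F] (h2 : (2 : F) = 0) {n : ℕ} (hn : 2 ≤ n) :
    RealOdd (Matrix.ProjectiveSpecialLinearGroup (Fin n) F) := by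
  haveI : NeZero n := ⟨by omega⟩
  have hq1 : ¬ ∃ k, Nat.card F + 1 = 2 ^ k := not_card_add_one_two h2
  obtain ⟨m, hm⟩ : ∃ m, n = 2 * m ∨ n = 2 * m + 1 := ⟨n / 2, by omega⟩
  obtain ⟨K, _, _, _, D, lam, p, k, hfin, -, hDD, hlamD, hp, hp2, hk, hord, hgen, -, -⟩ :=
    exists_field F (m := m) (by omega) (fun _ => hq1)
  rcases hm with rfl | rfl
  · refine psl_alg (Module.finBasisOfFinrankEq F K hfin) hgen (y := D.toLinearMap) (det_invol_two h2 ?_) ?_ hp hp2 hk hord ?_
    · ext v; exact hDD v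
    · intro v
      show lam * D (lam * v) = D v
      rw [map_mul, ← mul_assoc, hlamD, one_mul]
    · intro a s _ _ h
      exact eq_of_sq_two h2 (fun a ha => mul_self_eq_zero.1 ha) h
  · have hlam1 : lam - 1 ≠ 0 := by
      intro h
      have h1 : lam ^ 1 = 1 := by rw [pow_one]; exact sub_eq_zero.1 h
      have h3 := Nat.le_of_dvd one_pos ((hord 1).1 h1)
      have := Nat.one_lt_pow (by omega : k ≠ 0) hp.one_lt
      omega
    obtain ⟨N, hN, hN1⟩ := exists_pow_eq_one hlam1
    have hgen' := adjoin_prod_one hgen hN hN1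
    have hfin' : finrank F (K × F) = 2 * m + 1 := by rw [Module.finrank_prod, hfin, Module.finrank_self]
    refine psl_alg (Module.finBasisOfFinrankEq F (K × F) hfin') hgen' (y := LinearMap.prodMap D.toLinearMap LinearMap.id)
      (det_invol_two h2 ?_) ?_ hp hp2 hk ?_ ?_
    · ext v
      all_goals simp [hDD]
    · rintro ⟨v, c⟩
      refine Prod.ext ?_ ?_
      · show lam * D (lam * v) = D v
        rw [map_mul, ← mul_assoc, hlamD, one_mul]
      · show (1 : F) * (1 * c) = c
        rw [one_mul, one_mul]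
    · intro j
      rw [← hord, Prod.ext_iff]
      show lam ^ j = 1 ∧ (1 : F) ^ j = 1 ↔ _
      rw [one_pow, and_iff_left rfl]
    · intro a s _ _ h
      refine eq_of_sq_two h2 (fun a ha => ?_) h
      rw [Prod.ext_iff] at ha
      exact Prod.ext (mul_self_eq_zero.1 ha.1) (mul_self_eq_zero.1 ha.2)

end Cfsg.Agent.H101.RO
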