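import Cfsg.Agent.H101.ROSp
import Cfsg.Agent.LieClassical.HermBasic
import Cfsg.Agent.LieClassical.SUBasic
import Cfsg.Agent.ClassicalGeometry.HermOrthonormal

/-!
# `RealOdd` for `PSU_n(q)`: the criteria
-/

set_option autoImplicit false
set_option linter.style.haveILetI false
set_option linter.unusedSectionVars false

namespace Cfsg.Agent.H101.RO

open Module Cfsg
open Cfsg.Agent.LieClassical.HermBasic Cfsg.Agent.LieClassical.SUBasic

variable {F : Type*} [Field F] [Fintype F] {q n : ℕ}

theorem conj_ne_id (hF : Fintype.card F = q ^ 2) : (conj hF).toRingHom ≠ RingHom.id F := by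
  intro h
  obtain ⟨x, hx⟩ := exists_not_fixed hF
  exact hx (RingHom.congr_fun h x)

theorem herm_eq (hF : Fintype.card F = q ^ 2) {V : Type*} [AddCommGroup V] [Module F V]
    (S : V →ₛₗ[(conj hF).toRingHom] V →ₗ[F] F) (b : Basis (Fin n) F V) (hb : ∀ i j, S (b i) (b j) = if i = j then 1 else 0)
    (u v : Fin n → F) : hermForm n F q u v = S (b.equivFun.symm v) (b.equivFun.symm u) := by
  rw [herm_def, Basis.equivFun_symm_apply, Basis.equivFun_symm_apply]
  have h0 : S (∑ i, v i • b i) (∑ j, u j • b j) = ∑ i, S (v i • b i) (∑ j, u j • b j) := by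
    rw [map_sum S, LinearMap.sum_apply]
  rw [h0]
  have h1 : ∀ i : Fin n, S (v i • b i) (∑ j, u j • b j) = u i * v i ^ q := by
    intro i
    rw [LinearMap.map_smulₛₗ₂, map_sum, Finset.sum_eq_single i]
    · rw [map_smul, hb, if_pos rfl, smul_eq_mul, smul_eq_mul, mul_one]
      show v i ^ q * u i = _
      rw [mul_comm]
    · intro j _ hj
      rw [map_smul, hb, if_neg hj.symm, smul_zero]
    · intro h
      exact absurd (Finset.mem_univ _) h
  exact Finset.sum_congr rfl fun i _ => (h1 i).symm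

/-- **The criterion for `PSU_n`.** -/
theorem psu_crit (hF : Fintype.card F = q ^ 2) (hn : 3 ≤ n) {V : Type*} [AddCommGroup V] [Module F V]
    (hfin : finrank F V = n) (S : V →ₛₗ[(conj hF).toRingHom] V →ₗ[F] F) (hS : S.IsSymm) (hnd : S.SeparatingLeft)
    {x y : Module.End F V} (hx : ∀ u v, S (x u) (x v) = S u v) (hy : ∀ u v, S (y u) (y v) = S u v)
    (hdy : LinearMap.det y = 1)
    (hxy : x * y * x = y) {p k : ℕ} (hp : p.Prime) (hp2 : p ≠ 2) (hk : 1 ≤ k) (hord : ∀ j, x ^ j = 1 ↔ p ^ k ∣ j)
    (hc : ∀ (g : Module.End F V) (s : F), (∀ u v, S (g u) (g v) = S u v) → LinearMap.det g = 1 → g * x = x * g →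
      g * g = s • 1 → ∃ t : F, g = t • 1) : RealOdd (PSU n F q) := by
  haveI : FiniteDimensional F V := FiniteDimensional.of_finrank_pos (by omega)
  haveI : NeZero n := ⟨by omega⟩
  obtain ⟨b', hb'⟩ := Cfsg.Agent.ClassicalGeometry.HermOrthonormal.exists_orthonormal_basis (conj_ne_id hF)
    (fun a => pow_q_pow_q hF a) S hS hnd
  let b : Basis (Fin n) F V := b'.reindex (finCongr hfin)
  have hb : ∀ i j, S (b i) (b j) = if i = j then 1 else 0 := by
    intro i j
    rw [Basis.reindex_apply, Basis.reindex_apply, hb']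
    simp only [EmbeddingLike.apply_eq_iff_eq]
  have hmv : ∀ (T : Module.End F V) (h : LinearMap.det T = 1) (u : Fin n → F),
      b.equivFun.symm (((slOf b T h : Matrix.SpecialLinearGroup (Fin n) F) : Matrix (Fin n) (Fin n) F).mulVec u) =
        T (b.equivFun.symm u) := by
    intro T h u
    show b.equivFun.symm ((LinearMap.toMatrix b b T).mulVec u) = _
    rw [LinearEquiv.symm_apply_eq]
    have h2 := LinearMap.toMatrix_mulVec_repr b b T (b.equivFun.symm u)
    have h3 : (b.repr (b.equivFun.symm u) : Fin n → F) = u := b.equivFun.apply_symm_apply u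
    rw [h3] at h2
    exact h2
  have hmem : ∀ (T : Module.End F V) (h : LinearMap.det T = 1), (∀ u v, S (T u) (T v) = S u v) → slOf b T h ∈ SU n F q := by
    intro T h hT
    rw [Cfsg.Agent.LieClassical.HermBasic.mem_SU_iff]
    intro u v
    rw [herm_eq hF S b hb, herm_eq hF S b hb, hmv, hmv, hT]
  have hiso : ∀ (A : SU n F q) (u v : V), S (endOf b A.1 u) (endOf b A.1 v) = S u v := by
    intro A u v
    have h1 : ∀ w, endOf b A.1 w = b.equivFun.symm ((A.1 : Matrix (Fin n) (Fin n) F).mulVec (b.equivFun w)) := by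
      intro w
      have h3 : slOf b (endOf b A.1) (det_endOf b A.1) = A.1 := endOf_injective b (endOf_slOf b _ _)
      have h2 := hmv (endOf b A.1) (det_endOf b A.1) (b.equivFun w)
      rw [h3, LinearEquiv.symm_apply_apply] at h2
      exact h2.symm
    rw [h1, h1, ← herm_eq hF S b hb, (Cfsg.Agent.LieClassical.HermBasic.mem_SU_iff A.1).1 A.2, herm_eq hF S b hb, LinearEquiv.symm_apply_apply,
      LinearEquiv.symm_apply_apply]
  let ρ : SU n F q →* Module.End F V := (slHom b).comp (SU n F q).subtype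
  have hρ : ∀ A : SU n F q, ρ A = endOf b A.1 := fun _ => rfl
  have hpk : Odd (p ^ k) := (hp.odd_of_ne_two hp2).pow
  have hdx : LinearMap.det x = 1 := det_eq_one_of_inv (by rw [hdy]; exact one_ne_zero) hxy hpk ((hord _).2 dvd_rfl)
  have hcen : ∀ A, A ∈ Subgroup.center (SU n F q) ↔ ∃ s : F, ρ A = s • (1 : Module.End F V) := by
    intro A
    constructor
    · intro hA
      obtain ⟨c, hcn, hcq, rfl⟩ := (mem_center_SU_iff hF hn A).1 hA
      refine ⟨c, ?_⟩
      rw [hρ]
      unfold endOf
      have : (((suScalar q c hcn hcq : SU n F q) : Matrix.SpecialLinearGroup (Fin n) F) : Matrix (Fin n) (Fin n) F) =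
          c • (1 : Matrix (Fin n) (Fin n) F) := by rw [coe_suScalar, Matrix.smul_one_eq_diagonal]
      show (LinearMap.toMatrixAlgEquiv b).symm
        (((suScalar q c hcn hcq : SU n F q) : Matrix.SpecialLinearGroup (Fin n) F) : Matrix (Fin n) (Fin n) F) = _
      rw [this, map_smul, map_one]
    · rintro ⟨s, hs⟩
      have h1 : A.1 ∈ Subgroup.center (Matrix.SpecialLinearGroup (Fin n) F) := (mem_center_iff_endOf b A.1).2 ⟨s, hs⟩
      rw [Subgroup.mem_center_iff] at h1 ⊢
      intro B
      exact Subtype.ext (h1 B.1)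
  have hXe : ρ ⟨slOf b x hdx, hmem x hdx hx⟩ = x := endOf_slOf b x hdx
  have hYe : ρ ⟨slOf b y hdy, hmem y hdy hy⟩ = y := endOf_slOf b y hdy
  refine proj_crit ρ (fun A A' h => Subtype.ext (endOf_injective b h)) hcen (X := ⟨slOf b x hdx, hmem x hdx hx⟩)
    (Y := ⟨slOf b y hdy, hmem y hdy hy⟩) (by rw [hXe, hYe, hxy]) hp hp2 hk (by rw [hXe]; exact hord) ?_
  intro A s hcomm hsq
  rw [hXe] at hcomm
  exact hc (ρ A) s (hiso A) (det_endOf b A.1) hcomm hsq

/-- **Algebra criterion for `PSU_n`.** -/
theorem psu_alg (hF : Fintype.card F = q ^ 2) (hn : 3 ≤ n) {R : Type*} [CommRing R] [Algebra F R]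
    (hfin : finrank F R = n) (J : R →+* R) (hJ : ∀ c : F, J (algebraMap F R c) = algebraMap F R (c ^ q))
    (hJJ : ∀ v, J (J v) = v) (l : R →ₗ[F] F)
    (hl : ∀ w, l (J w) = l w ^ q) (hnd : ∀ u, (∀ v, l (u * v) = 0) → u = 0) {lam : R}
    (hlam : lam * J lam = 1) (hgen : Algebra.adjoin F {lam} = ⊤) {y : Module.End F R} (hdy : LinearMap.det y = 1)
    (hy : ∀ u v, l (y u * J (y v)) = l (u * J v)) (hxy : ∀ v, lam * y (lam * v) = y v)
    {p k : ℕ} (hp : p.Prime) (hp2 : p ≠ 2) (hk : 1 ≤ k) (hord : ∀ j, lam ^ j = 1 ↔ p ^ k ∣ j)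
    (hc : ∀ (a : R) (s : F), s * s ^ q = 1 → a * J a = 1 → LinearMap.det (LinearMap.mulLeft F a) = 1 →
      a * a = algebraMap F R s → ∃ t : F, a = algebraMap F R t) : RealOdd (PSU n F q) := by
  let S : R →ₛₗ[(conj hF).toRingHom] R →ₗ[F] F :=
    LinearMap.mk₂'ₛₗ (conj hF).toRingHom (RingHom.id F) (fun u v => l (v * J u))
      (fun u u' v => by rw [map_add, mul_add, map_add])
      (fun c u v => by
        have h1 : J (c • u) = (c ^ q) • J u := by rw [Algebra.smul_def, map_mul, hJ, ← Algebra.smul_def]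
        rw [h1, mul_smul_comm, map_smul]
        rfl)
      (fun u v v' => by rw [add_mul, map_add])
      (fun c u v => by rw [smul_mul_assoc, map_smul]; rfl)
  have hSv : ∀ u v, S u v = l (v * J u) := fun _ _ => rfl
  have hS : S.IsSymm := ⟨fun u v => by
    show (S u v) ^ q = S v u
    rw [hSv, hSv, ← hl, map_mul, hJJ, mul_comm]⟩
  have hsep : S.SeparatingLeft := by
    intro u hu
    have h1 : J u = 0 := hnd _ fun v => by rw [mul_comm]; exact hu v
    rw [← hJJ u, h1, map_zero]
  haveI : Nontrivial R := Module.nontrivial_of_finrank_pos (R := F) (by omega)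
  refine psu_crit hF hn hfin S hS hsep (x := LinearMap.mulLeft F lam) (y := y) ?_ (fun u v => hy v u) hdy ?_ hp hp2 hk
    (fun j => by rw [mulLeft_pow_eq_one_iff, hord]) ?_
  · intro u v
    rw [hSv, hSv, LinearMap.mulLeft_apply, LinearMap.mulLeft_apply, map_mul J]
    have : lam * v * (J lam * J u) = (lam * J lam) * (v * J u) := by ring
    rw [this, hlam, one_mul]
  · ext v
    exact hxy v
  · intro g s hg hdet hcomm hsq
    have hgm := exists_mulLeft_of_comm hgen hcomm
    set a := g 1 with ha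
    have h1 : a * J a = 1 := by
      have h2 : a * J a - 1 = 0 := by
        refine hnd _ fun v => ?_
        have h3 := hg 1 v
        rw [hgm] at h3
        rw [hSv, hSv, LinearMap.mulLeft_apply, LinearMap.mulLeft_apply, mul_one, map_one, mul_one] at h3
        have : (a * J a - 1) * v = a * v * J a - v := by ring
        rw [this, map_sub, h3, sub_self]
      linear_combination h2
    have h2 : a * a = algebraMap F R s := by
      have h3 : a * a = (g * g) 1 := by
        rw [Module.End.mul_apply, ← ha, hgm]; rfl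
      rw [h3, hsq, LinearMap.smul_apply, Module.End.one_apply, Algebra.algebraMap_eq_smul_one]
    have h3 : s * s ^ q = 1 := by
      have h4 : algebraMap F R (s * s ^ q) = algebraMap F R 1 := by
        rw [map_mul, ← hJ, ← h2, map_mul, map_one]
        calc a * a * (J a * J a) = (a * J a) * (a * J a) := by ring
          _ = 1 := by rw [h1, one_mul]
      exact (algebraMap F R).injective h4
    obtain ⟨t, ht⟩ := hc a s h3 h1 (by rw [← hgm]; exact hdet) h2
    refine ⟨t, ?_⟩
    rw [hgm, ht]
    ext v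
    rw [LinearMap.mulLeft_apply, LinearMap.smul_apply, Module.End.one_apply, Algebra.smul_def]

end Cfsg.Agent.H101.RO
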