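import Cfsg.Agent.H101.ROSU

/-!
# `RealOdd` for `PSU_n(q)`: the unipotent case
-/

set_option autoImplicit false
set_option linter.style.haveILetI false
set_option linter.unusedSectionVars false

namespace Cfsg.Agent.H101.RO

open Module Cfsg Polynomial
open Cfsg.Agent.LieClassical.HermBasic Cfsg.Agent.LieClassical.SUBasic

namespace Tr

theorem hom_ext {F : Type*} [Field F] {n : ℕ} {S : Type*} [Semiring S] {φ ψ : Tr F n →+* S}
    (h1 : ∀ c, φ (algebraMap F (Tr F n) c) = ψ (algebraMap F (Tr F n) c)) (h2 : φ (r F n) = ψ (r F n)) : φ = ψ := by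
  have h3 : φ.comp (AdjoinRoot.mk (X ^ n : F[X])) = ψ.comp (AdjoinRoot.mk (X ^ n : F[X])) :=
    Polynomial.ringHom_ext h1 h2
  apply RingHom.ext
  intro a
  obtain ⟨f, rfl⟩ := AdjoinRoot.mk_surjective a
  exact RingHom.congr_fun h3 f

/-- any ring homomorphism with `r ↦ -r` inverts `lam` -/
theorem lam_mul_of {F : Type*} [Field F] {n : ℕ} {φ : Tr F n →+* Tr F n} (h : φ (r F n) = -r F n) :
    lam F n * φ (lam F n) = 1 := by
  have h1 : (1 + r F n) * φ (w F n) = 1 := by
    have := congrArg φ (w_mul F n)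
    rwa [map_mul, map_sub, h, map_one, sub_neg_eq_add] at this
  have h2 : φ (lam F n) = (1 - r F n) * φ (w F n) := by
    rw [lam, map_mul, map_add, map_one, h, ← sub_eq_add_neg]
  rw [h2, lam]
  linear_combination (w F n * (1 - r F n)) * h1 + w_mul F n

variable {F : Type*} [Field F] [Fintype F] {q : ℕ} (hF : Fintype.card F = q ^ 2) (n : ℕ)

/-- the conjugation `r ↦ -r` -/
noncomputable def J : Tr F n →+* Tr F n :=
  AdjoinRoot.lift ((algebraMap F (Tr F n)).comp (conj hF).toRingHom) (-r F n) (by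
    rw [eval₂_pow, eval₂_X, neg_pow, r_pow, mul_zero])

theorem J_r : J hF n (r F n) = -r F n := AdjoinRoot.lift_root _

theorem J_algebraMap (c : F) : J hF n (algebraMap F (Tr F n) c) = algebraMap F (Tr F n) (c ^ q) := by
  show J hF n (AdjoinRoot.of _ c) = _
  rw [J, AdjoinRoot.lift_of]
  rfl

theorem J_J (a : Tr F n) : J hF n (J hF n a) = a := by
  have h : (J hF n).comp (J hF n) = RingHom.id _ := by
    apply hom_ext
    · intro c
      show J hF n (J hF n _) = _
      rw [J_algebraMap, J_algebraMap, pow_q_pow_q hF]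
      rfl
    · show J hF n (J hF n _) = _
      rw [J_r, map_neg, J_r, neg_neg]
      rfl
  exact RingHom.congr_fun h a

theorem D_J (a : Tr F n) : D F n (J hF n a) = J hF n (D F n a) := by
  have h : ((D F n : Tr F n →ₐ[F] Tr F n) : Tr F n →+* Tr F n).comp (J hF n) =
      (J hF n).comp ((D F n : Tr F n →ₐ[F] Tr F n) : Tr F n →+* Tr F n) := by
    apply hom_ext
    · intro c
      show D F n (J hF n _) = J hF n (D F n _)
      rw [J_algebraMap, AlgHom.commutes, AlgHom.commutes, J_algebraMap]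
    · show D F n (J hF n _) = J hF n (D F n _)
      rw [J_r, D_r, map_neg, map_neg, J_r, D_r]
  exact RingHom.congr_fun h a

theorem J_smul (c : F) (a : Tr F n) : J hF n (c • a) = c ^ q • J hF n a := by
  rw [Algebra.smul_def, map_mul, J_algebraMap, ← Algebra.smul_def]

theorem l_J (hn : 0 < n) (a : Tr F n) : l F n hn (J hF n a) = (-1) ^ (n - 1) * l F n hn a ^ q := by
  have h : a = ∑ i, (basis F n).repr a i • basis F n i := ((basis F n).sum_repr a).symm
  have h1 : J hF n a = ∑ i, ((basis F n).repr a i) ^ q • ((-1 : F) ^ (i : ℕ) • basis F n i) := by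
    conv_lhs => rw [h]
    rw [map_sum]
    refine Finset.sum_congr rfl fun i _ => ?_
    rw [J_smul, basis_apply, map_pow, J_r, neg_pow, Algebra.smul_def ((-1 : F) ^ (i : ℕ)), map_pow, map_neg, map_one]
  have h2 : ∀ c : Fin n → F, l F n hn (∑ i, c i • basis F n i) = c ⟨n - 1, by omega⟩ := by
    intro c
    rw [map_sum, Finset.sum_eq_single ⟨n - 1, by omega⟩]
    · rw [map_smul, basis_apply, l_r_pow, if_pos rfl, smul_eq_mul, mul_one]
    · intro i _ hi
      rw [map_smul, basis_apply, l_r_pow, if_neg (fun h => hi (Fin.ext h)), smul_zero]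
    · intro h
      exact absurd (Finset.mem_univ _) h
  rw [h1]
  conv_rhs => rw [h, h2]
  have h3 : ∑ i, ((basis F n).repr a i) ^ q • ((-1 : F) ^ (i : ℕ) • basis F n i) =
      ∑ i, (((basis F n).repr a i) ^ q * (-1 : F) ^ (i : ℕ)) • basis F n i :=
    Finset.sum_congr rfl fun i _ => by rw [smul_smul]
  rw [h3, h2, mul_comm]

end Tr

/-- **the unipotent case** -/
theorem psu_unip {F : Type} [Field F] [Fintype F] {q n : ℕ} (hF : Fintype.card F = q ^ 2) (hn : 3 ≤ n)
    (h2 : (2 : F) ≠ 0) (hγ : ∃ γ : F, γ ^ (q + 1) = (-1) ^ (n - 1) ∧ γ ^ n * (-1) ^ (n / 2) = 1) :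
    RealOdd (PSU n F q) := by
  obtain ⟨p, hpc⟩ := CharP.exists F
  have hp : p.Prime := CharP.char_is_prime F p
  have hp2 : p ≠ 2 := by
    rintro rfl
    exact h2 (CharP.cast_eq_zero F 2)
  have hn0 : 0 < n := by omega
  obtain ⟨k, hk, hord⟩ := Tr.exists_order_lam F n hp h2 (by omega : 2 ≤ n)
  obtain ⟨γ, hγ1, hγ2⟩ := hγ
  obtain ⟨c, hc0, hc⟩ : ∃ c : F, c ≠ 0 ∧ c ^ q = (-1) ^ (n - 1) * c := by
    rcases Nat.even_or_odd (n - 1) with h | h
    · exact ⟨1, one_ne_zero, by rw [h.neg_one_pow, one_pow, one_mul]⟩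
    · obtain ⟨c, hc0, hc⟩ := exists_trace_zero_ne hF
      exact ⟨c, hc0, by rw [h.neg_one_pow]; linear_combination hc⟩
  refine psu_alg hF hn (Tr.finrank_eq F n) (Tr.J hF n) (Tr.J_algebraMap hF n) (Tr.J_J hF n) (c • Tr.l F n hn0) ?_ ?_
    (Tr.lam_mul_of (Tr.J_r hF n)) (Tr.adjoin_lam F n h2) (y := γ • (Tr.D F n).toLinearMap) ?_ ?_ ?_ hp hp2 hk hord ?_
  · intro w
    rw [LinearMap.smul_apply, LinearMap.smul_apply, smul_eq_mul, smul_eq_mul, Tr.l_J, mul_pow, hc]
    ring
  · intro u hu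
    refine Tr.l_nondeg F n hn0 fun v => ?_
    have := hu v
    rw [LinearMap.smul_apply, smul_eq_mul] at this
    exact (mul_eq_zero.1 this).resolve_left hc0
  · rw [LinearMap.det_smul, Tr.finrank_eq, Tr.det_D, hγ2]
  · intro u v
    show (c • Tr.l F n hn0) ((γ • Tr.D F n u) * Tr.J hF n (γ • Tr.D F n v)) = (c • Tr.l F n hn0) (u * Tr.J hF n v)
    have h1 : (γ • Tr.D F n u) * Tr.J hF n (γ • Tr.D F n v) = γ ^ (q + 1) • Tr.D F n (u * Tr.J hF n v) := by
      rw [Tr.J_smul, smul_mul_smul_comm, ← Tr.D_J, ← map_mul, pow_succ']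
    rw [h1, map_smul, LinearMap.smul_apply, Tr.l_D, LinearMap.smul_apply, smul_eq_mul, smul_eq_mul, smul_eq_mul, hγ1]
    have h3 : ((-1 : F) ^ (n - 1)) * (-1) ^ (n - 1) = 1 := by
      rw [← mul_pow, neg_one_mul, neg_neg, one_pow]
    linear_combination (c * Tr.l F n hn0 (u * Tr.J hF n v)) * h3
  · intro v
    rw [LinearMap.smul_apply, LinearMap.smul_apply, AlgHom.toLinearMap_apply, AlgHom.toLinearMap_apply, map_mul,
      mul_smul_comm, ← mul_assoc, Tr.lam_mul_D, one_mul]
  · intro a s hs _ _ h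
    refine Tr.eq_of_sq h2 (s := s) ?_ h
    rintro rfl
    rw [zero_mul] at hs
    exact zero_ne_one hs

end Cfsg.Agent.H101.RO
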