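import Cfsg.Agent.H101.ROField

/-!
# Truncated polynomial algebras `F[X]/(X^n)` with involution `X ↦ -X`

The regular unipotent element is the multiplication by `lam = (1 + r) / (1 - r)`.
-/

set_option autoImplicit false
set_option linter.style.haveILetI false

namespace Cfsg.Agent.H101.RO

open Module Polynomial

section Trunc

variable (F : Type*) [Field F] (n : ℕ)

/-- `F[X]/(X^n)` -/
abbrev Tr : Type _ := AdjoinRoot (X ^ n : F[X])

namespace Tr

/-- the nilpotent generator -/
noncomputable def r : Tr F n := AdjoinRoot.root (X ^ n : F[X])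

theorem r_pow : r F n ^ n = 0 := by
  have h := AdjoinRoot.eval₂_root (X ^ n : F[X])
  rw [eval₂_pow, eval₂_X] at h
  exact h

theorem r_pow_of_le {m : ℕ} (h : n ≤ m) : r F n ^ m = 0 := by
  obtain ⟨k, rfl⟩ := Nat.exists_eq_add_of_le h
  rw [pow_add, r_pow, zero_mul]

theorem isNilpotent_r : IsNilpotent (r F n) := ⟨n, r_pow F n⟩

/-- the basis of the powers of `r` -/
noncomputable def basis : Basis (Fin n) F (Tr F n) :=
  (AdjoinRoot.powerBasis' (monic_X_pow n : (X ^ n : F[X]).Monic)).basis.reindex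
    (finCongr (by rw [AdjoinRoot.powerBasis'_dim, natDegree_X_pow]))

theorem basis_apply (i : Fin n) : basis F n i = r F n ^ (i : ℕ) := by
  unfold basis r
  rw [Basis.reindex_apply, PowerBasis.basis_eq_pow, AdjoinRoot.powerBasis'_gen]
  rfl

theorem finrank_eq : finrank F (Tr F n) = n := by
  rw [finrank_eq_card_basis (basis F n), Fintype.card_fin]

instance instFiniteTr : Module.Finite F (Tr F n) := Module.Finite.of_basis (basis F n)

theorem finite [Finite F] : Finite (Tr F n) := Module.finite_of_finite F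

theorem nontrivial (hn : 0 < n) : Nontrivial (Tr F n) :=
  Module.nontrivial_of_finrank_pos (R := F) (by rw [finrank_eq]; exact hn)

/-- the decomposition into constant term and multiple of `r` -/
theorem exists_eq (a : Tr F n) : ∃ (t : F) (c : Tr F n), a = algebraMap F (Tr F n) t + r F n * c := by
  obtain ⟨f, rfl⟩ := AdjoinRoot.mk_surjective a
  refine ⟨f.coeff 0, AdjoinRoot.mk _ f.divX, ?_⟩
  conv_lhs => rw [← Polynomial.divX_mul_X_add f]
  rw [map_add, map_mul, AdjoinRoot.mk_X, AdjoinRoot.mk_C, add_comm, mul_comm]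
  rfl

variable {F n}

/-- **square roots of scalars** in odd characteristic -/
theorem eq_of_sq (h2 : (2 : F) ≠ 0) {a : Tr F n} {s : F} (hs : s ≠ 0) (h : a * a = algebraMap F (Tr F n) s) :
    ∃ t : F, a = algebraMap F (Tr F n) t := by
  rcases Nat.eq_zero_or_pos n with hn | hn
  · subst hn
    refine ⟨0, ?_⟩
    have h0 : (1 : Tr F 0) = 0 := by have := r_pow F 0; rwa [pow_zero] at this
    rw [← mul_one a, h0, mul_zero, map_zero]
  obtain ⟨t, c, rfl⟩ := exists_eq F n a
  haveI : Nontrivial (Tr F n) := nontrivial F n hn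
  have hinj : Function.Injective (algebraMap F (Tr F n)) := (algebraMap F (Tr F n)).injective
  have hnil : IsNilpotent (r F n * c) := (Commute.all _ _).isNilpotent_mul_right (isNilpotent_r F n)
  have h1 : algebraMap F (Tr F n) (t * t - s) + r F n * c * (2 * algebraMap F (Tr F n) t + r F n * c) = 0 := by
    rw [map_sub, map_mul, ← h]; ring
  have h3 : t * t = s := by
    by_contra hne
    have hu : IsUnit (algebraMap F (Tr F n) (t * t - s)) := (sub_ne_zero.2 hne).isUnit.map _
    have hnil' : IsNilpotent (r F n * c * (2 * algebraMap F (Tr F n) t + r F n * c)) :=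
      (Commute.all _ _).isNilpotent_mul_right hnil
    have := hnil'.isUnit_add_left_of_commute hu (Commute.all _ _)
    rw [h1] at this
    exact not_isUnit_zero this
  rw [h3, sub_self, map_zero, zero_add] at h1
  have ht : t ≠ 0 := by rintro rfl; rw [mul_zero] at h3; exact hs h3.symm
  have hu : IsUnit (2 * algebraMap F (Tr F n) t + r F n * c) := by
    refine hnil.isUnit_add_left_of_commute ?_ (Commute.all _ _)
    have : (2 : Tr F n) * algebraMap F (Tr F n) t = algebraMap F (Tr F n) (2 * t) := by rw [map_mul, map_ofNat]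
    rw [this]
    exact (mul_ne_zero h2 ht).isUnit.map _
  have h4 : r F n * c = 0 := (hu.mul_left_eq_zero).1 h1
  exact ⟨t, by rw [h4, add_zero]⟩

variable (F n)

/-- the involution `r ↦ -r` -/
noncomputable def D : Tr F n →ₐ[F] Tr F n :=
  AdjoinRoot.liftAlgHom (X ^ n : F[X]) (Algebra.ofId F (Tr F n)) (-r F n) (by
    rw [eval₂_pow, eval₂_X, neg_pow, r_pow, mul_zero])

theorem D_r : D F n (r F n) = -r F n := AdjoinRoot.liftAlgHom_root _ _ _ _

theorem D_r_pow (i : ℕ) : D F n (r F n ^ i) = (-1 : F) ^ i • r F n ^ i := by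
  rw [map_pow, D_r, neg_pow, Algebra.smul_def, map_pow, map_neg, map_one]

theorem D_basis (i : Fin n) : D F n (basis F n i) = (-1 : F) ^ (i : ℕ) • basis F n i := by
  rw [basis_apply, D_r_pow]

theorem D_D (a : Tr F n) : D F n (D F n a) = a := by
  have h : (D F n).comp (D F n) = AlgHom.id F (Tr F n) := by
    apply AdjoinRoot.algHom_ext
    show D F n (D F n (r F n)) = r F n
    rw [D_r, map_neg, D_r, neg_neg]
  exact DFunLike.congr_fun h a

theorem prod_neg_one_pow (n : ℕ) : ∏ i : Fin n, (-1 : F) ^ (i : ℕ) = (-1) ^ (n / 2) := by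
  rw [Fin.prod_univ_eq_prod_range (fun i => (-1 : F) ^ i) n, Finset.prod_pow_eq_pow_sum]
  induction n using Nat.twoStepInduction with
  | zero => simp
  | one => simp
  | more n ih _ =>
    have h1 : (-1 : F) ^ n * ((-1) ^ n * (-1)) = -1 := by
      rw [← mul_assoc, ← mul_pow, neg_one_mul, neg_neg, one_pow, one_mul]
    rw [Finset.sum_range_succ, Finset.sum_range_succ, pow_add, pow_add, ih, Nat.add_div_right _ (by norm_num), pow_succ, pow_succ,
      mul_assoc, h1]

theorem det_D : LinearMap.det (D F n).toLinearMap = (-1) ^ (n / 2) := by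
  rw [← LinearMap.det_toMatrix (basis F n)]
  have : LinearMap.toMatrix (basis F n) (basis F n) (D F n).toLinearMap = Matrix.diagonal fun i : Fin n => (-1 : F) ^ (i : ℕ) := by
    ext i j
    rw [LinearMap.toMatrix_apply, AlgHom.toLinearMap_apply, D_basis, map_smul, Basis.repr_self, Finsupp.smul_single,
      Finsupp.single_apply, Matrix.diagonal_apply]
    by_cases h : i = j
    · subst h; simp
    · rw [if_neg (fun h' => h h'.symm), if_neg h]
  rw [this, Matrix.det_diagonal, prod_neg_one_pow]

/-- the coordinate of `r ^ (n - 1)` -/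
noncomputable def l (hn : 0 < n) : Tr F n →ₗ[F] F := (basis F n).coord ⟨n - 1, by omega⟩

theorem l_r_pow (hn : 0 < n) (m : ℕ) : l F n hn (r F n ^ m) = if m = n - 1 then 1 else 0 := by
  by_cases h : m < n
  · have : r F n ^ m = basis F n ⟨m, h⟩ := (basis_apply F n ⟨m, h⟩).symm
    rw [this, l, Basis.coord_apply, Basis.repr_self, Finsupp.single_apply]
    simp only [Fin.mk.injEq]
  · rw [r_pow_of_le F n (by omega), map_zero, if_neg (by omega)]

theorem l_D (hn : 0 < n) (a : Tr F n) : l F n hn (D F n a) = (-1) ^ (n - 1) * l F n hn a := by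
  have h : l F n hn ∘ₗ (D F n).toLinearMap = ((-1 : F) ^ (n - 1)) • l F n hn := by
    apply (basis F n).ext
    intro i
    rw [LinearMap.comp_apply, AlgHom.toLinearMap_apply, D_basis, map_smul, LinearMap.smul_apply, basis_apply, l_r_pow]
    by_cases hi : (i : ℕ) = n - 1
    · rw [hi]
    · rw [if_neg hi, smul_zero, smul_zero]
  exact LinearMap.congr_fun h a

theorem l_nondeg (hn : 0 < n) {u : Tr F n} (h : ∀ v, l F n hn (u * v) = 0) : u = 0 := by
  have key : ∀ i : Fin n, (basis F n).repr u i = 0 := by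
    intro i
    have h1 := h (r F n ^ (n - 1 - (i : ℕ)))
    have h2 : u = ∑ k : Fin n, (basis F n).repr u k • r F n ^ (k : ℕ) := by
      conv_lhs => rw [← (basis F n).sum_repr u]
      exact Finset.sum_congr rfl fun k _ => by rw [basis_apply]
    rw [h2, Finset.sum_mul, map_sum] at h1
    rw [Finset.sum_eq_single i] at h1
    · rw [smul_mul_assoc, ← pow_add, map_smul, l_r_pow, if_pos (by have := i.2; omega), smul_eq_mul, mul_one] at h1
      exact h1
    · intro k _ hk
      rw [smul_mul_assoc, ← pow_add, map_smul, l_r_pow, if_neg, smul_zero]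
      intro h3
      exact hk (Fin.ext (by have := i.2; omega))
    · intro h3
      exact absurd (Finset.mem_univ _) h3
  have : (basis F n).repr u = 0 := Finsupp.ext key
  exact (basis F n).repr.map_eq_zero_iff.1 this

/-- inverse of `1 - r` -/
noncomputable def w : Tr F n := ∑ i ∈ Finset.range n, r F n ^ i

theorem w_mul : (1 - r F n) * w F n = 1 := by
  rw [w, mul_neg_geom_sum, r_pow, sub_zero]

/-- the unipotent element -/
noncomputable def lam : Tr F n := (1 + r F n) * w F n

theorem lam_mul : lam F n * (1 - r F n) = 1 + r F n := by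
  rw [lam, mul_assoc, mul_comm (w F n), w_mul, mul_one]

theorem lam_mul_D : lam F n * D F n (lam F n) = 1 := by
  have h1 : (1 + r F n) * D F n (w F n) = 1 := by
    have := congrArg (D F n) (w_mul F n)
    rwa [map_mul, map_sub, D_r, map_one, sub_neg_eq_add] at this
  have h2 : D F n (lam F n) = (1 - r F n) * D F n (w F n) := by
    rw [lam, map_mul, map_add, map_one, D_r, ← sub_eq_add_neg]
  rw [h2, lam]
  linear_combination (w F n * (1 - r F n)) * h1 + w_mul F n

theorem isNilpotent_lam_sub_one : IsNilpotent (lam F n - 1) := by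
  have : lam F n - 1 = r F n * (2 * w F n) := by
    have h := w_mul F n
    rw [lam]
    linear_combination h
  rw [this]
  exact (Commute.all _ _).isNilpotent_mul_right (isNilpotent_r F n)

theorem isUnit_lam_add_one (h2 : (2 : F) ≠ 0) : IsUnit (lam F n + 1) := by
  have : lam F n + 1 = algebraMap F (Tr F n) 2 * w F n := by
    have h := w_mul F n
    rw [lam, map_ofNat]
    linear_combination -h
  rw [this]
  refine IsUnit.mul (h2.isUnit.map _) ?_
  exact IsUnit.of_mul_eq_one (1 - r F n) (by rw [mul_comm]; exact w_mul F n)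

theorem r_mul : r F n * (lam F n + 1) = lam F n - 1 := by
  have := lam_mul F n
  linear_combination -this

/-- **`lam` generates** -/
theorem adjoin_lam [Finite F] (h2 : (2 : F) ≠ 0) : Algebra.adjoin F {lam F n} = ⊤ := by
  haveI := finite F n
  obtain ⟨u, hu⟩ := isUnit_lam_add_one F n h2
  set B := Algebra.adjoin F {lam F n} with hB
  have hl : lam F n ∈ B := Algebra.subset_adjoin rfl
  have hN : 0 < orderOf u := orderOf_pos u
  have hinv : ((u⁻¹ : (Tr F n)ˣ) : Tr F n) ∈ B := by
    have h1 : u⁻¹ = u ^ (orderOf u - 1) := by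
      rw [inv_eq_iff_mul_eq_one, ← pow_succ', Nat.sub_add_cancel hN, pow_orderOf_eq_one]
    rw [h1, Units.val_pow_eq_pow_val, hu]
    exact pow_mem (add_mem hl (one_mem _)) _
  have hr : r F n ∈ B := by
    have h1 : r F n = (lam F n - 1) * ((u⁻¹ : (Tr F n)ˣ) : Tr F n) := by
      rw [← r_mul F n, mul_assoc, ← hu, Units.mul_inv, mul_one]
    rw [h1]
    exact mul_mem (sub_mem hl (one_mem _)) hinv
  rw [eq_top_iff, ← AdjoinRoot.adjoinRoot_eq_top]
  exact Algebra.adjoin_le (Set.singleton_subset_iff.2 hr)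

theorem lam_ne_one (h2 : (2 : F) ≠ 0) (hn : 2 ≤ n) : lam F n ≠ 1 := by
  intro h
  have h1 := r_mul F n
  rw [h, sub_self] at h1
  have h3 : IsUnit ((1 : Tr F n) + 1) := by
    have := isUnit_lam_add_one F n h2
    rwa [h] at this
  have h4 : r F n = 0 := (h3.mul_left_eq_zero).1 h1
  have h5 := basis_apply F n ⟨1, by omega⟩
  rw [show (((⟨1, by omega⟩ : Fin n) : ℕ)) = 1 from rfl, pow_one, h4] at h5
  exact (basis F n).ne_zero _ h5

/-- **the order of `lam`** -/
theorem exists_order_lam {p : ℕ} [CharP F p] (hp : p.Prime) (h2 : (2 : F) ≠ 0) (hn : 2 ≤ n) :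
    ∃ k, 1 ≤ k ∧ ∀ j : ℕ, lam F n ^ j = 1 ↔ p ^ k ∣ j := by
  haveI : Fact p.Prime := ⟨hp⟩
  haveI : Nontrivial (Tr F n) := nontrivial F n (by omega)
  haveI : CharP (Tr F n) p := charP_of_injective_algebraMap (algebraMap F (Tr F n)).injective p
  haveI : ExpChar (Tr F n) p := ExpChar.prime hp
  obtain ⟨N, hN⟩ := isNilpotent_lam_sub_one F n
  have h1 : lam F n ^ (p ^ N) = 1 := by
    have h3 : (lam F n - 1) ^ (p ^ N) = 0 := by
      obtain ⟨c, hc⟩ := Nat.exists_eq_add_of_le (Nat.lt_pow_self hp.one_lt : N < p ^ N).le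
      rw [hc, pow_add, hN, zero_mul]
    rw [sub_pow_char_pow, one_pow, sub_eq_zero] at h3
    exact h3
  have h3 : orderOf (lam F n) ∣ p ^ N := orderOf_dvd_of_pow_eq_one h1
  obtain ⟨k, -, hk⟩ := (Nat.dvd_prime_pow hp).1 h3
  refine ⟨k, ?_, fun j => by rw [← hk, orderOf_dvd_iff_pow_eq_one]⟩
  rcases Nat.eq_zero_or_pos k with rfl | hk0
  · rw [pow_zero, orderOf_eq_one_iff] at hk
    exact absurd hk (lam_ne_one F n h2 hn)
  · exact hk0

end Tr

end Trunc

end Cfsg.Agent.H101.RO
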