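import Cfsg.Agent.H101.NPLie
import Cfsg.Agent.H101.ROAlt
import Cfsg.Agent.H729.RealSpor
import Cfsg.Agent.H799.RO.RowMcL
import Cfsg.Agent.H799.RO.RowCo3
import Cfsg.Agent.H525.RO.HnRow
import Cfsg.Agent.H525.RO.BRow
import Cfsg.Agent.H972.ROM
import Cfsg.Agent.CpAutTThree.MTwelve
import Cfsg.Agent.S0399

/-!
# Real elements of odd prime power order with a centralizer of odd order: all simple groups (helper101)

`real_cases` : the table of S2248, for groups in the list of the classification. Rows of the sporadic groups by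
helper729, helper799, helper525, helper972.
-/

set_option autoImplicit false

namespace Cfsg.Agent.H101.RO

open Cfsg

theorem isM12 {X : Type*} [Group X] (h : Spor.IsoM12 X) : IsM12 X := by
  obtain ⟨e⟩ := h
  have := CpAutTThree.MTwelve.simple
  exact ⟨e.isSimpleGroup, by rw [Nat.card_congr e.toEquiv, CpAutTThree.MTwelve.card]⟩

theorem isCo1 {X : Type*} [Group X] (h : Spor.IsoCo1 X) : IsCo1 X := by
  obtain ⟨e⟩ := h
  obtain ⟨h1, h2⟩ := Cfsg.Agent.S0399.result
  exact ⟨e.isSimpleGroup, by rw [Nat.card_congr e.toEquiv]; exact h2⟩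

/-- The table. -/
theorem real_cases {S : Type*} [Group S] [Finite S] (hna : ¬ IsMulCommutative S) (h : IsKnownSimple' S) :
    RealOdd S ∨ IsM12 S ∨ IsCo1 S ∨ ∃ n : ℕ, (42 ≤ n ∨ n = 24) ∧ Nonempty (S ≃* ↥(alternatingGroup (Fin n))) := by
  rcases known_cases hna h with h | h | h | h
  · rcases alt_row h with h | h
    · exact Or.inl h
    · exact Or.inr (Or.inr (Or.inr h))
  · exact Or.inl h
  · exact Or.inl (H729.RealSpor.tits h)
  · rcases H729.RealSpor.spor H799.RO.RowMcL.ro_McL H799.RO.RowCo3.ro_Co3 H525.RO.hn H525.RO.BRow.b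
      H972.ROM.ro_M h with h | h | h
    · exact Or.inl h
    · exact Or.inr (Or.inl (isM12 h))
    · exact Or.inr (Or.inr (Or.inl (isCo1 h)))

end Cfsg.Agent.H101.RO
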